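import Cfsg.Agent.KM.Sc.BD0
import Cfsg.Agent.KM.Tr

/-!
# KM (S4999), the spin groups: the rows of the orthogonal groups for odd primes from `BoxDat` (helper31)
-/

set_option autoImplicit false
set_option linter.unusedSectionVars false
set_option linter.unusedVariables false
set_option maxHeartbeats 400000

namespace Cfsg.Agent.KM.BD

open Cfsg Cfsg.Agent.DL Cfsg.Agent.LangThm Matrix Sum Cfsg.Agent.TwoF.DC Cfsg.Agent.TwoF.DC.TC Cfsg.Agent.TwoF.DC.TBD
  Cfsg.Agent.TwoF.DC.TBD.Cl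

/-- an `RDat` with an algebraic faithful representation is a simply connected datum -/
def BoxDat : Prop :=
  ∀ (p : ℕ) [Fact p.Prime] (ι Φ k G : Type) [Fintype ι] [DecidableEq ι] [Fintype Φ] [DecidableEq Φ] [Field k]
    [IsAlgClosed k] [CharP k p] [Group G] (D : RDat p ι Φ k G) (P : Tws D), D.Fa →
    (∀ a : k, ∃ m, 0 < m ∧ a ^ p ^ m = a) → ∀ (N : Type) [Fintype N] [DecidableEq N] (ρ : G →* GL N k),
    Function.Injective ρ → (∀ g, ρ (P.Fr g) = frob p 1 (ρ g)) →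
    (∀ x i j, ∃ f : Polynomial k, ∀ u, (ρ (D.ζ x u) : Matrix N N k) i j = f.eval u) →
    (∃ μ : N → ι → ℤ, ∀ c, (ρ (D.κ c) : Matrix N N k) = diagonal fun i => ((chr (μ i) c : kˣ) : k)) →
    ∀ (S : Type) [Group S], IsSimpleGroup S → ¬ IsMulCommutative S → ∀ π : P.TT →* S, Function.Surjective π →
    π.ker ≤ Subgroup.center P.TT → ∀ (A : Type) [CommGroup A] (d a : ℕ), HasSchurMultiplier S A →
    Nat.card A ∣ d * p ^ a → 0 < d → d ≤ Nat.card P.Zc →
    ∃ (F : MulAut G) (X : Datum p ρ F ⊤), Nonempty (Sc X S) ∧ ∀ l, LevR D.R l → Tor.Lev X l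

/-- the row of the exceptional covers of `Ω₈⁺(2)` at the prime three -/
def O82 : Prop := ∀ (F : Type) [Field F] [Fintype F], Fintype.card F = 2 → Row 3 (POmega F (quadFormPlus 4 F))

theorem lf_closure (F : Type) [Field F] [Fintype F] (p : ℕ) [Fact p.Prime] [CharP F p] (a : AlgebraicClosure F) :
    ∃ m, 0 < m ∧ a ^ p ^ m = a := by
  have h1 : IsIntegral F a := Algebra.IsIntegral.isIntegral a
  have := IntermediateField.adjoin.finiteDimensional h1
  have : Finite (IntermediateField.adjoin F {a}) := Module.finite_of_finite F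
  have := Fintype.ofFinite (IntermediateField.adjoin F {a})
  have : CharP (IntermediateField.adjoin F {a}) p := (algebraMap F _).charP_iff_charP p |>.1 inferInstance
  obtain ⟨n, -, hn⟩ := FiniteField.card (IntermediateField.adjoin F {a}) p
  refine ⟨n, n.pos, ?_⟩
  have h2 := FiniteField.pow_card (⟨a, IntermediateField.mem_adjoin_simple_self F a⟩ : IntermediateField.adjoin F {a})
  rw [hn] at h2
  exact congrArg Subtype.val h2

theorem noncomm_of {S T : Type} [Group S] [Group T] (e : S ≃* T) (h : ¬ IsMulCommutative S) : ¬ IsMulCommutative T :=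
  fun hh => h ⟨⟨fun x y => e.injective (by rw [map_mul, map_mul, hh.1.1])⟩⟩

theorem row_cd (hD : BoxDat) (Co : Core) {m : ℕ} {Φ : Type} [Fintype Φ] [DecidableEq Φ] (C : CD m Φ)
    (h : ∀ w, ∃ v, C.X.dual.E v = (2 : ℤ) • w) {p : ℕ} [Fact p.Prime] {k : Type} [Field k] [IsAlgClosed k] [CharP k p]
    (lf : ∀ a : k, ∃ m, 0 < m ∧ a ^ p ^ m = a) (h2 : (∃ b, C.ib b = inl ()) → (2 : k) ≠ 0)
    (P : Tws (C.rdat k p h2)) (hP : P.Fr = C.fr (frobenius k p)) (hF : (C.rdat k p h2).Fa) {S : Type} [Group S]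
    (hS : IsSimpleGroup S) (hn : ¬ IsMulCommutative S) (hπ : PiP P S) {A : Type} [CommGroup A]
    (hA : HasSchurMultiplier S A) (h1 : ¬ p ∣ Nat.card A) (h4 : Nat.card A ∣ 4)
    (hd : p ≠ 2 → Nat.card A ≤ Nat.card P.Zc) {l : ℕ} [hl : Fact l.Prime] (hp : l ≠ p) (hl2 : l ≠ 2) : Row l S := by
  obtain ⟨π, k1, k2⟩ := hπ
  obtain ⟨d, a, k3, k4, k5⟩ : ∃ d a, Nat.card A ∣ d * p ^ a ∧ 0 < d ∧ d ≤ Nat.card P.Zc := by
    by_cases e : p = 2
    · have := TE.finite_Zc P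
      exact ⟨1, 2, by rw [e]; exact h4, one_pos, Nat.card_pos⟩
    · exact ⟨_, 0, by simp, Nat.pos_of_dvd_of_pos h4 four_pos, hd e⟩
  obtain ⟨F, X, ⟨s⟩, hL⟩ := hD p _ _ k _ _ P hF lf _ (rho C k) (rho_inj C k) (fun g => by rw [hP]; exact rho_fr C p g)
    (rho_poly C p h2) ⟨_, rho_diag C p h2⟩ S hS hn π k1 k2 A d a hA k3 k4 k5
  exact row_of_sc Co boxSc s hp (hL l (levR C h hl.out hl2)) hA h1 (not_dvd_four hl.out hl2 h4)

theorem ne_char {F : Type} [Field F] {p l : ℕ} [CharP F p] (h : (l : F) ≠ 0) : l ≠ p := by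
  rintro rfl
  exact h (CharP.cast_eq_zero F l)

theorem vec_D {p m : ℕ} [Fact (2 ≤ m)] {k : Type} [Field k] :
    Vec (dD m k p) (fun b => b.1.1) (fun b => Sum.inr b.1.2) (cD m).th := by
  rw [show (fun b : PD m => b.1.1) = fun b => Sum.inl ((cD m).ia b) from
    funext fun b => (inl_ix (Nat.lt_of_succ_lt b.lt)).symm]
  exact (cD m).vec p _

variable (hD : BoxDat) (Co : Core)
include hD Co

theorem row_odd_of : RowFor (Od COdd) := by
  rintro l hl S _ _ _ hn ⟨hl2, F, _, _, m, hlF, hm, hodd, ⟨e⟩⟩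
  obtain ⟨p, hc⟩ := CharP.exists F
  obtain ⟨f, hp, hq⟩ := FiniteField.card F p
  have : Fact p.Prime := ⟨hp⟩
  have := Finite.of_equiv _ e.toEquiv
  refine Row.of_equiv e ?_
  have hlp := ne_char (p := p) hlF
  by_cases h5 : m = 3 ∧ Fintype.card F = 3
  · obtain ⟨rfl, h5⟩ := h5
    obtain rfl : p = 3 := (Nat.prime_dvd_prime_iff_eq hp Nat.prime_three).1 (h5 ▸ hq ▸ dvd_pow_self p f.pos.ne')
    exact boxSmall l _ (Or.inl (small_O7 h5 hl.out hl2 hlp))
  have hp2 : p ≠ 2 := by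
    rintro rfl
    rw [hq, Nat.odd_pow_iff f.pos.ne'] at hodd
    exact absurd hodd (by decide)
  let k := AlgebraicClosure F
  have h2 : (2 : k) ≠ 0 := fun e =>
    hp2 ((Nat.prime_dvd_prime_iff_eq hp Nat.prime_two).1 ((CharP.cast_eq_zero_iff k p 2).1 (by exact_mod_cast e)))
  let D := (cB m).rdat k p fun _ => h2
  let P := tw0 D f f.pos ((cB m).fr (frobenius k p)) ((cB m).fr_z p _ _) ((cB m).fr_y p _ _)
  have hF : D.Fa := TE.fa_of_faith (boxB p hp2 m hm k _ D rfl).faith ⟨0, by omega⟩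
  have hv : Vec D (fun b => b.1.1) ibB (cB m).th := by
    rw [show (fun b : PR m => b.1.1) = fun b => Sum.inl ((cB m).ia b) from funext fun b => (inl_ix b.lt).symm]
    exact (cB m).vec p _
  have hπ := (boxPi p m k _ F (algebraMap F k) _).1 hp2 hm D rfl hF hv P rfl hq
  have hA := S2094.result rfl hodd m hm h5
  refine row_cd hD Co (cB m) (two_B m) (lf_closure F p) _ P rfl hF e.symm.isSimpleGroup (noncomm_of e hn) hπ hA
    (by rw [card_cyc, Nat.prime_dvd_prime_iff_eq hp Nat.prime_two]; exact hp2) (by rw [card_cyc]; decide)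
    (fun _ => ?_) hlp hl2
  rw [card_cyc]
  refine TE.le_card_Zc P (m := 2) Nat.prime_two (Pi.single ⟨m - 1, by omega⟩ 1) ⟨m - 1, by omega⟩ (by simp) (fun i => ?_)
    fun _ => ⟨fun e => hp2 ((Nat.prime_dvd_prime_iff_eq hp Nat.prime_two).1 e), fun i => ?_⟩
  · rw [Finset.sum_eq_single ⟨m - 1, by omega⟩ (fun j _ hj => by simp [hj]) (by simp)]
    refine Dvd.dvd.mul_left ?_ _
    show _ ∣ rv (zc _) ⬝ᵥ _
    rw [rv_zc_dot, dif_neg (by simp only; omega)]
    exact dvd_mul_right _ _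
  · rw [show P.sι i = i from rfl]
    conv_lhs => rw [← mul_one (Pi.single (M := fun _ => ℕ) _ _ _)]
    exact Nat.ModEq.mul_left _ (Nat.odd_iff.1 (hq ▸ hodd)).symm

theorem row_plus_of (h8 : O82) : RowFor (Od CPlus) := by
  rintro l hl S _ _ _ hn ⟨hl2, F, _, _, m, hlF, hm, ⟨e⟩⟩
  obtain ⟨p, hc⟩ := CharP.exists F
  obtain ⟨f, hp, hq⟩ := FiniteField.card F p
  have : Fact p.Prime := ⟨hp⟩
  have := Finite.of_equiv _ e.toEquiv
  refine Row.of_equiv e ?_
  have hlp := ne_char (p := p) hlF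
  by_cases h5 : m = 4 ∧ Fintype.card F = 2
  · obtain ⟨rfl, h5⟩ := h5
    by_cases h3 : l = 3
    · subst h3
      exact h8 F h5
    · exact boxSmall l _ (Or.inl (small_O8 h5 hl.out hl2 h3))
  have : Fact (2 ≤ m) := ⟨by omega⟩
  let k := AlgebraicClosure F
  let P := tD m k p f f.pos 1
  have hF : (dD m k p).Fa := TE.fa_of_faith (faithD (by omega) p k) (fst m)
  have hπ := ((boxPi p m k _ F (algebraMap F k) _).2 hm _ rfl hF vec_D P hq).1 rfl
  obtain ⟨A, _, hA, k1, k2, k3⟩ := mult_plus hp (hq ▸ dvd_pow_self p f.pos.ne') hm h5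
  refine row_cd hD Co (cD m) (two_D m) (lf_closure F p) _ P rfl hF e.symm.isSimpleGroup (noncomm_of e hn) hπ hA k1 k2
    (fun h2 => ?_) hlp hl2
  obtain ⟨z2, z4⟩ := Nm.card_Zc (D := dD m k p) rfl P h2 (by omega) (Or.inl rfl)
  by_cases h7 : m % 2 = 1 ∧ Fintype.card F % 4 = 3
  · exact (Nat.le_of_dvd two_pos (k3 h7)).trans z2
  · exact (Nat.le_of_dvd four_pos k2).trans (z4 (Or.inl ⟨rfl, by rw [hq] at h7; exact h7⟩))

theorem row_minus_of : RowFor (Od CMinus) := by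
  rintro l hl S _ _ _ hn ⟨hl2, F, _, _, m, a, b, hlF, hm, hab, ⟨e⟩⟩
  obtain ⟨p, hc⟩ := CharP.exists F
  obtain ⟨f, hp, hq⟩ := FiniteField.card F p
  have : Fact p.Prime := ⟨hp⟩
  refine Row.of_equiv e ?_
  have hlp := ne_char (p := p) hlF
  have : Fact (2 ≤ m) := ⟨by omega⟩
  let k := AlgebraicClosure F
  let P := tD m k p f f.pos ⟨gN m, Subgroup.mem_zpowers _⟩
  have hF : (dD m k p).Fa := TE.fa_of_faith (faithD (by omega) p k) (fst m)
  have hπ := ((boxPi p m k _ F (algebraMap F k) _).2 hm _ rfl hF vec_D P hq).2 rfl a b hab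
  have hA := S2099.result rfl m hm a b hab
  refine row_cd hD Co (cD m) (two_D m) (lf_closure F p) _ P rfl hF e.symm.isSimpleGroup (noncomm_of e hn) hπ hA
    (by rw [card_cyc]; exact not_dvd_add hp (hq ▸ dvd_pow_self p f.pos.ne') (by omega) 4)
    (by rw [card_cyc]; exact Nat.gcd_dvd_left _ _) (fun h2 => ?_) hlp hl2
  obtain ⟨z2, z4⟩ := Nm.card_Zc (D := dD m k p) rfl P h2 (by omega) (Or.inr rfl)
  rw [card_cyc, hq]
  by_cases h7 : m % 2 = 1 ∧ p ^ (f : ℕ) % 4 = 3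
  · exact (Nat.le_of_dvd four_pos (Nat.gcd_dvd_left _ _)).trans (z4 (Or.inr ⟨rfl, h7⟩))
  · have h3 := Nm.pow_mod (m := m) (Nat.odd_iff.1 (hp.odd_of_ne_two h2).pow : p ^ (f : ℕ) % 2 = 1)
    rw [if_neg h7] at h3
    exact (Nat.le_of_dvd two_pos (Nm.gcd_dvd_two (by omega))).trans z2

end Cfsg.Agent.KM.BD
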