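import Cfsg.Agent.KM.Sc.Isog
import Cfsg.Agent.KM.Sc.BD1
import Cfsg.Agent.KM.Ex.Row

/-!
# KM (S4999): the simply connected cover of a frame (helper5)

* `BoxDat2` : `BD.BoxDat` with the torus, the roots and the Steinberg map exported;
* `Isog.exists_sc` : the projection onto `S` can be taken compatible with the isogeny; `Isog.lev`;
* `HasSc hp r Mx Adm z d S` : an adjoint frame for `S` with a simply connected cover;
* `TorImB`, `TI`, `LX`; `HasSc.row`, `HasSc.row_lev`.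
-/

set_option autoImplicit false
set_option linter.unusedSectionVars false
set_option linter.unusedVariables false

namespace Cfsg.Agent.KM.Sc

open Cfsg Cfsg.Lie Cfsg.Agent.DL Cfsg.Agent.DL.Ex Cfsg.Agent.LangThm Matrix Cfsg.Agent.TwoF.DC Cfsg.Agent.KZ.DatX
  Cfsg.Agent.Nodes.RGDChev Cfsg.Agent.KFacts.RgdChevCoord

/-- an `RDat` with an algebraic faithful representation is a simply connected datum -/
def BoxDat2 : Prop :=
  ∀ (p : ℕ) [Fact p.Prime] (ι Φ k G : Type) [Fintype ι] [DecidableEq ι] [Fintype Φ] [DecidableEq Φ] [Field k]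
    [IsAlgClosed k] [CharP k p] [Group G] (D : RDat p ι Φ k G) (P : Tws D), D.Fa →
    (∀ a : k, ∃ m, 0 < m ∧ a ^ p ^ m = a) → ∀ (N : Type) [Fintype N] [DecidableEq N] (ρ : G →* GL N k),
    Function.Injective ρ → (∀ g, ρ (P.Fr g) = frob p 1 (ρ g)) →
    (∀ x i j, ∃ f : Polynomial k, ∀ u, (ρ (D.ζ x u) : Matrix N N k) i j = f.eval u) →
    (∃ μ : N → ι → ℤ, ∀ c, (ρ (D.κ c) : Matrix N N k) = diagonal fun i => ((chr (μ i) c : kˣ) : k)) →
    ∀ (S : Type) [Group S], IsSimpleGroup S → ¬ IsMulCommutative S → ∀ π : P.TT →* S, Function.Surjective π →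
    π.ker ≤ Subgroup.center P.TT → ∀ (A : Type) [CommGroup A] (d a : ℕ), HasSchurMultiplier S A →
    Nat.card A ∣ d * p ^ a → 0 < d → d ≤ Nat.card P.Zc →
    ∃ (F : MulAut G) (X : Datum p ρ F ⊤) (e : ι ≃ X.R), Nonempty (KM.Sc X S) ∧ (∀ g, F g = P.Θ g) ∧
      (∀ c, X.τ c = D.κ (c ∘ e)) ∧ (∀ a, X.Rt a → ∃ x, X.wt a ∘ e = D.R.wt x) ∧
      ∀ x, ∃ a, X.Rt a ∧ X.wt a ∘ e = D.R.wt x

theorem BoxDat2.boxDat (h : BoxDat2) : BD.BoxDat := by
  intro p _ ι Φ k G _ _ _ _ _ _ _ _ D P h1 h2 N _ _ ρ h3 h4 h5 h6 S _ h7 h8 π h9 h10 A _ d a h11 h12 h13 h14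
  obtain ⟨F, X, e, s, -, -, k1, -⟩ := h p ι Φ k G D P h1 h2 N ρ h3 h4 h5 h6 S h7 h8 π h9 h10 A d a h11 h12 h13 h14
  refine ⟨F, X, s, fun l hl j u => ?_⟩
  obtain ⟨c, hc, v, hv⟩ := hl j (u ∘ e)
  refine ⟨c, hc, v ∘ e.symm, fun b hb hd => ?_⟩
  obtain ⟨x, hx⟩ := k1 b hb
  rw [← comp_equiv_dotProduct_comp_equiv _ _ e, hx] at hd ⊢
  rw [← hv x hd]
  congr 1
  funext i
  simp

section Grp

variable {T B S : Type} [Group T] [Group B] [Group S] [Finite T]

theorem exists_pi (θ : T →* B) (hθ : θ.ker ≤ Subgroup.center T) {ι : S →* B} (hι : Function.Injective ι)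
    (h : ∀ t, θ t ∈ ι.range) {π₀ : T →* S} (h1 : Function.Surjective π₀) (h2 : π₀.ker = Subgroup.center T) :
    ∃ (π : T →* S) (α : S ≃* S), (∀ t, α (π₀ t) = π t) ∧ ∀ t, ι (π t) = θ t := by
  let π : T →* S := (MonoidHom.ofInjective hι).symm.toMonoidHom.comp (θ.codRestrict _ h)
  have hπ : ∀ t, ι (π t) = θ t := fun t => MonoidHom.apply_ofInjective_symm hι _
  have h3 : π.ker ≤ π₀.ker := fun t ht => h2.ge (hθ (by rw [MonoidHom.mem_ker, ← hπ, MonoidHom.mem_ker.1 ht, map_one]))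
  have := Finite.of_surjective _ h1
  let β : π.range →* S := π.rangeRestrict.liftOfSurjective π.rangeRestrict_surjective
    ⟨π₀, by rwa [MonoidHom.ker_rangeRestrict]⟩
  have hβ : ∀ t, β (π.rangeRestrict t) = π₀ t := fun t =>
    π.rangeRestrict.liftOfRightInverse_comp_apply _ _ _ t
  have h4 : Function.Surjective β := fun s => by
    obtain ⟨t, rfl⟩ := h1 s
    exact ⟨_, hβ t⟩
  have h5 : π.range = ⊤ := Subgroup.eq_top_of_le_card _ (Nat.card_le_card_of_surjective β h4)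
  have h6 : Function.Bijective β := h4.bijective_of_nat_card_le (by rw [h5, Subgroup.card_top])
  let γ : π.range ≃* S := (MulEquiv.subgroupCongr h5).trans Subgroup.topEquiv
  refine ⟨π, (MulEquiv.ofBijective β h6).symm.trans γ, fun t => ?_, hπ⟩
  rw [MulEquiv.trans_apply, ← hβ, ← MulEquiv.ofBijective_apply β h6, MulEquiv.symm_apply_apply]
  rfl

end Grp

section Dat

variable {p : ℕ} [Fact p.Prime] {k : Type} [Field k] [CharP k p] [IsAlgClosed k]
  {Y' : Type} [Group Y'] {N' : Type} [Fintype N'] [DecidableEq N'] {ρ' : Y' →* GL N' k} {F' : MulAut Y'}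
  {G' : Subgroup Y'} {Y : Type} [Group Y] {N : Type} [Fintype N] [DecidableEq N] {ρ : Y →* GL N k} {F : MulAut Y}
  {G : Subgroup Y} {X' : Datum p ρ' F' G'} {X : Datum p ρ F G} {θ : Y' →* Y} {z : ℕ} {S : Type} [Group S]
  {ι : S →* Y} {l : ℕ}

/-- the projection composed with an isomorphism -/
def re (s : KM.Sc X' S) {S' : Type} [Group S'] (α : S ≃* S') : KM.Sc X' S' where
  qs := s.qs
  nt := s.nt
  pi1 := s.pi1
  π := α.toMonoidHom.comp s.π
  surj := α.surjective.comp s.surj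
  ker := by rw [← s.ker, ← MonoidHom.comap_ker, (MonoidHom.ker_eq_bot_iff _).2 α.injective, MonoidHom.comap_bot]
  perf := s.perf
  cov K _ _ h1 h2 e := by
    obtain ⟨ψ, h3, h4⟩ := s.cov K h1 h2 (e.trans α.symm)
    exact ⟨ψ, h3, fun t => α.symm_apply_eq.1 (h4 t)⟩

theorem Isog.exists_sc (I : Isog X' X θ z) (hc : θ.ker ≤ Subgroup.center Y') (s : KM.Sc X' S) {T : Subgroup Y} {d : ℕ}
    (O : Over F G T ι d) : ∃ s : KM.Sc X' S, ∀ h, ι (s.π h) = θ h := by
  have := X'.amb.finite_GF G'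
  let φ : GF F' G' →* GF F G := (θ.comp (GF F' G').subtype).codRestrict _ fun h => I.map_GF h.2
  have h1 : (commutator (GF F' G')).map φ ≤ O.hom.range := by
    refine le_trans ?_ O.commutator_le
    rw [commutator_def, Subgroup.map_commutator, commutator_def]
    exact Subgroup.commutator_mono le_top le_top
  obtain ⟨π, α, h2, h3⟩ := exists_pi (θ.comp (GF F' G').subtype)
    (fun t ht => Subgroup.mem_center_iff.2 fun g => Subtype.ext (Subgroup.mem_center_iff.1 (hc ht) g)) O.inj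
    (fun t => O.mem_range.1 (h1 ⟨t, s.perf.ge trivial, rfl⟩)) s.surj s.ker
  exact ⟨re s α, fun h => (congrArg ι (h2 h)).trans (h3 h)⟩

theorem Isog.lev (I : Isog X' X θ z) (hz : l.Coprime z) (h : Tor.Lev X l) : Tor.Lev X' l := fun j u => by
  obtain ⟨c, hc, v, hv⟩ := h j (I.P *ᵥ u)
  refine ⟨z * c, IsCoprime.mul_left ?_ hc, I.Q *ᵥ v, fun a' ha' hd => ?_⟩
  · exact (Nat.isCoprime_iff_coprime.2 hz.symm).pow_right
  · obtain ⟨a, ha, e⟩ := I.root a' ha'
    rw [e, ← dotProduct_mulVec] at hd ⊢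
    rw [mulVec_add, mulVec_smul, mulVec_smul, mulVec_mulVec, I.PQ, smul_mulVec, one_mulVec, mul_smul,
      smul_comm _ (z : ℤ) v, ← smul_add, dotProduct_smul, hv a ha hd, smul_zero]

/-- `TorIm` for non-cyclic defect groups of order at least `l ^ 3` -/
def TorImB (l : ℕ) (X : Datum p ρ F G) {S : Type} [Group S] (ι : S →* Y) : Prop :=
  ∀ (K : Type) [Group K] [Finite K] (σ : K →* S) (M : Ideal AlgInt) (B : Set (IrrCharacter K)) (D : Subgroup K),
    Cv l M B D σ → ¬ IsCyclic D → l ^ 3 ∣ Nat.card D → Ht.Toral X (D.map (ι.comp σ)) ∨ BK.HZ l B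

theorem TorImB.torIm [Fact l.Prime] (h : TorImB l X ι) : TorIm l X ι := fun K _ _ σ M B D H => by
  by_cases h1 : IsCyclic D
  · exact .inr (TID.Blk.height_cyclic H.hM H.hB H.hD h1)
  by_cases h2 : blockDefect l B ≤ 2
  · exact .inr (TID.Blk.height_small H.hM H.hB h2)
  exact h K σ M B D H h1 (S0908.result l M H.hM B H.hB D H.hD ▸ pow_dvd_pow l (by omega))

end Dat

variable {C : ChevalleyDatum} {n : ℕ} {M : CoxeterMatrix (Fin n)} {hp : IsType C n M} {r : ℕ} [Fact r.Prime]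
  {Mx : Matrix (Fin n) (Fin n) ℤ} {Adm : Matrix (Fin n) (Fin n) ℤ → Prop} {z d l : ℕ} {S : Type} [Group S]

variable (hp r Mx Adm z d S) in
/-- an adjoint frame with a simply connected cover -/
def HasSc : Prop :=
  ∃ (k : Type) (_ : Field k) (_ : CharP k r) (_ : IsAlgClosed k) (X : XF hp r k Mx) (t : XS X Adm d S),
    t.ov.hom.range.index ∣ d ∧ ∃ (Y : Type) (_ : Group Y) (N : Type) (_ : Fintype N) (_ : DecidableEq N)
      (ρ : Y →* GL N k) (F : MulAut Y) (X' : Datum r ρ F ⊤) (θ : Y →* ↥(C.group k)) (s : KM.Sc X' S),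
      Nonempty (Isog X' X.D θ z) ∧ θ.ker = Subgroup.center Y ∧ ∀ h, t.ι (s.π h) = θ h

variable (hp Adm d S) in
/-- `TorImB` in the adjoint frames of `S` -/
def TI (Mx : Matrix (Fin n) (Fin n) ℤ) (r : ℕ) [Fact r.Prime] (l : ℕ) : Prop :=
  ∀ (k : Type) [Field k] [CharP k r] [IsAlgClosed k] (X : XF hp r k Mx) (t : XS X Adm d S),
    t.ov.hom.range.index ∣ d → TorImB l X.D t.ι

variable (hp) in
/-- the lattice condition in the adjoint frames -/
def LX (l : ℕ) : Prop :=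
  ∀ (r : ℕ) [Fact r.Prime] (k : Type) [Field k] [CharP k r] [IsAlgClosed k] (Mx : Matrix (Fin n) (Fin n) ℤ)
    (X : XF hp r k Mx), Tor.Lev X.D l

variable [hl : Fact l.Prime] {A : Type} [CommGroup A]

theorem HasSc.row (h : HasSc hp r Mx Adm z d S) (hr : l ≠ r) (hz : l.Coprime z) (hA : HasSchurMultiplier S A)
    (hrA : ¬ r ∣ Nat.card A) (hT : TI hp Adm d S Mx r l) : Row l S := by
  obtain ⟨k, _, _, _, X, t, h1, Y, _, N, _, _, ρ, F, X', θ, s, ⟨I⟩, -, h2⟩ := h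
  exact row_of_isog core boxSc I s h2 hl.out hr hz hA hrA (hT k X t h1).torIm

theorem HasSc.row_lev (h : HasSc hp r Mx Adm z d S) (hr : l ≠ r) (hz : l.Coprime z) (hA : HasSchurMultiplier S A)
    (hrA : ¬ r ∣ Nat.card A) (hL : LX hp l) : Row l S := by
  obtain ⟨k, _, _, _, X, t, h1, Y, _, N, _, _, ρ, F, X', θ, s, ⟨I⟩, -, h2⟩ := h
  have := X'.amb.finite_GF ⊤
  exact boxSc l r _ S s.π Fact.out (I.not_dvd s h2 hl.out hz) s.cov A hA hrA fun M hM =>
    kmg_of_tor s.qs hl.out hr (fun M B D _ _ hD hc => Or.inl (Tor.toral s.pi1 hl.out hr (Nat.coprime_one_right l)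
      (I.lev hz (hL r k Mx X)) (Blocks.Basic.isPGroup_of_isDefectGroup hD) hc)) hM

end Cfsg.Agent.KM.Sc
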