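import Cfsg.Agent.KM.Sc.Dat
import Cfsg.Agent.KM.Sc.E0

/-!
# KM (S4999): `boxDat2` (helper27)
-/

set_option autoImplicit false

namespace Cfsg.Agent.KM.Dat

open Cfsg Cfsg.Agent.TwoF.DC

theorem boxDat2 : Sc.BoxDat2 := by
  intro p _ ι Φ k G _ _ _ _ _ _ _ _ D P hF lf N _ _ ρ h1 h2 h3 ⟨μ, h4⟩ S _ hS hn π h5 h6 A _ d a hA h7 h8 h9
  have h : Alg P ρ := ⟨hF, lf, h1, h2, h3, 1, μ, fun c => by rw [inv_one, one_mul, mul_one, h4]⟩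
  obtain ⟨s, -⟩ := h.sc hS hn h5 h6 hA h7 h8 h9
  refine ⟨h.aut, h.dat, Equiv.refl ι, ⟨s⟩, fun _ => rfl, fun _ => rfl, fun a ha => ?_,
    fun x => ⟨rv P x, h.rt_iff.2 ⟨x, rfl⟩, h.dat_wt x⟩⟩
  obtain ⟨x, rfl⟩ := h.rt_iff.1 ha
  exact ⟨x, h.dat_wt x⟩

end Cfsg.Agent.KM.Dat
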