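import Cfsg.Agent.KM.Sc.E2
import Cfsg.Agent.KM.Sc.Dat3

/-!
# KM (S4999): the rows `E₆`, `²E₆`, `E₇`, unconditional forms (helper5)
-/

set_option autoImplicit false

namespace Cfsg.Agent.KM.Sc

open Cfsg Cfsg.Lie Cfsg.Agent.KZ.DatX

section Has

variable {p : ℕ} [Fact p.Prime] {F : Type} [Field F] [Fintype F] [CharP F p] {e : ℕ}

theorem sc_E6 (hF : Fintype.card F = p ^ e) :
    HasSc hpE6 p ((p : ℤ) ^ e • 1) (AdmL p [1, P6]) 3 (Nat.gcd 3 (p ^ e - 1)) ↥(chevE6.group F) :=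
  hasSc_E6 Dat.boxDat2 hF

theorem sc_E7 (hF : Fintype.card F = p ^ e) :
    HasSc hpE7 p ((p : ℤ) ^ e • 1) (AdmL p [1]) 2 (Nat.gcd 2 (p ^ e - 1)) ↥(chevE7.group F) :=
  hasSc_E7 Dat.boxDat2 hF

theorem sc_2E6 (hK : Fintype.card F = (p ^ e) ^ 2) :
    HasSc hpE6 p ((p : ℤ) ^ e • P6) (AdmF p) 3 (Nat.gcd 3 (p ^ e + 1)) ↥(twistedE6 F (p ^ e)) :=
  hasSc_2E6 Dat.boxDat2 hK

end Has

variable {l : ℕ} [Fact l.Prime] {S : Type} [Group S]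

theorem row_e6 (h3 : l ≠ 3) (hT : TE6 l ∨ LX hpE6 l) (h : CE6 l S) : Row l S := row_e6' Dat.boxDat2 h3 hT h

theorem row_e7 (h2 : l ≠ 2) (hT : TE7 l ∨ LX hpE7 l) (h : CE7 l S) : Row l S := row_e7' Dat.boxDat2 h2 hT h

theorem row_te6 (h3 : l ≠ 3) (hT : TT6 l ∨ LX hpE6 l) (h : CTe6 l S) : Row l S := row_te6' Dat.boxDat2 h3 hT h

end Cfsg.Agent.KM.Sc
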