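import Cfsg.Agent.KM.Box
import Cfsg.Agent.KM.Tor.Gen
import Cfsg.Agent.KZ.Dat.SpD
import Cfsg.Agent.H356.KillPSp
import Cfsg.Agent.S0269
import Cfsg.Agent.S2092

/-!
# KM (S4999): the symplectic groups, odd primes (helper12)
-/

set_option autoImplicit false
set_option linter.unusedSectionVars false

namespace Cfsg.Agent.KM.ScC

open Cfsg Cfsg.Agent.DL Cfsg.Agent.KZ.Dat Cfsg.Agent.Nodes.TypeC Cfsg.Agent.ODD.C2 Matrix
open Cfsg.Agent.TO.X.Cn (Pi1 cl cl_zero cl_add cl_smul cl_sr)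

section dat

variable {n : ℕ} {k : Type} [Field k] {p : ℕ} [Fact p.Prime] [CharP k p] [IsAlgClosed k]
  (hk : ∀ a : k, ∃ j, 0 < j ∧ a ^ p ^ j = a) {e : ℕ} (he : 0 < e)

include he in
theorem ntC : Deg.NT p (MonoidHom.id (GL (Fin n × Bool) k)) (FC n k p e) :=
  ⟨e, 1, he, one_pos, fun y => by rw [pow_one, mul_one, FC, one_mul]; rfl⟩

theorem pi1C : Pi1 (datC n hk he) 1 := by
  have h1 : ∀ (m : ℕ) (j : Fin n), n - j ≤ m → ∃ β, Pi.single j 1 = cl (datC n hk he) β := fun m => by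
    induction m with
    | zero => exact fun j h => absurd j.2 (by omega)
    | succ m ih =>
      intro j h
      have h2 := cl_sr (datC n hk he) j
      rw [datC_cw, cwC] at h2
      split_ifs at h2 with h3
      · obtain ⟨β, hβ⟩ := ih ⟨j + 1, h3⟩ (by simp only; omega)
        exact ⟨_ + β, by rw [cl_add, h2, ← hβ]; exact (sub_add_cancel _ _).symm⟩
      · exact ⟨_, h2.symm⟩
  choose β hβ using fun j => h1 n j (Nat.sub_le _ _)
  have h2 : ∀ (y : Fin n → ℤ) (s : Finset (Fin n)), ∃ γ, ∑ j ∈ s, y j • (Pi.single j 1 : Fin n → ℤ) =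
      cl (datC n hk he) γ := fun y s => by
    classical
    induction s using Finset.induction_on with
    | empty => exact ⟨0, (cl_zero (datC n hk he)).symm⟩
    | insert j s hj ih =>
      obtain ⟨γ, hγ⟩ := ih
      exact ⟨y j • β j + γ, by rw [Finset.sum_insert hj, cl_add, cl_smul, ← hβ, hγ]; rfl⟩
  intro y _ _ _ _
  obtain ⟨γ, hγ⟩ := h2 y Finset.univ
  exact ⟨γ, by rw [Nat.cast_one, one_smul, ← hγ]; exact pi_eq_sum_univ' y⟩

theorem bal {N : ℕ} (hN : Odd N) (u : Fin n → ℤ) : ∃ v : Fin n → ℤ, ∀ x y, (N : ℤ) ∣ (wt x + wt y) ⬝ᵥ u →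
    (wt x + wt y) ⬝ᵥ ((1 : ℤ) • u + (N : ℤ) • v) = 0 := by
  obtain ⟨s, hs⟩ := hN
  choose v hv using fun i : Fin n => Int.dvd_bmod_sub_self (x := u i) (m := N)
  refine ⟨v, fun x y h => ?_⟩
  have h2 : ∀ (z : Fin n × Bool) (w : Fin n → ℤ), wt z ⬝ᵥ w = if z.2 then w z.1 else -w z.1 := fun z w => by
    rw [wt, single_dotProduct]
    split_ifs <;> simp
  have h3 : ∀ i, ((1 : ℤ) • u + (N : ℤ) • v) i = (u i).bmod N := fun i => by
    have := hv i
    rw [Pi.add_apply, one_smul, Pi.smul_apply, smul_eq_mul]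
    omega
  have h4 : ∀ i, -(s : ℤ) ≤ (u i).bmod N ∧ (u i).bmod N ≤ s := fun i => by
    have a1 := Int.le_bmod (x := u i) (m := N) (by omega)
    have a2 := Int.bmod_lt (x := u i) (m := N) (by omega)
    omega
  refine Int.eq_zero_of_abs_lt_dvd (m := N) ?_ ?_
  · rw [dotProduct_add, one_smul, dotProduct_smul]
    exact dvd_add h (dvd_mul_right _ _)
  · have b1 := h4 x.1
    have b2 := h4 y.1
    rw [add_dotProduct, h2, h2, h3, h3, abs_lt]
    split_ifs <;> constructor <;> omega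

theorem levC {l : ℕ} (hl : Odd l) : Tor.Lev (datC n hk he) l := fun j u => by
  obtain ⟨v, hv⟩ := bal (n := n) (hl.pow (n := j)) u
  refine ⟨1, isCoprime_one_left, v, fun a ha h => ?_⟩
  obtain ⟨x, y, -, h1⟩ := (rtC_iff hk he).1 ha
  rw [h1] at h ⊢
  rw [Nat.cast_pow] at hv
  exact hv x y h

theorem torC {l : ℕ} (hl : l.Prime) (h2 : l ≠ 2) (hp : l ≠ p) : TorOr (datC n hk he) l := fun _ _ _ hM hB hD hA => by
  have := (datC n hk he).amb.finite_GF (GC n k)
  have : Fact l.Prime := ⟨hl⟩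
  exact Or.inl (Tor.toral (pi1C hk he) hl hp (Nat.coprime_one_right l) (levC hk he (hl.odd_of_ne_two h2))
    (IsPGroup.of_card (S0908.result l _ hM _ hB _ hD)) hA)

end dat

/-- **the row of the symplectic groups, `l` odd** -/
theorem row (C : Core) (hMu : BoxMult) (hSm : BoxSmall)
    (h62 : ∀ (F : Type) [Field F] [Fintype F], Fintype.card F = 2 → Row 3 (PSp 3 F)) : RowFor (Od CPsp) := by
  rintro l hl S _ _ _ - ⟨h2, F, _, _, m, hF, hm, hm2, ⟨e⟩⟩
  refine Row.of_equiv e ?_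
  by_cases h : m = 3 ∧ Fintype.card F = 2
  · obtain ⟨rfl, h⟩ := h
    by_cases h3 : l = 3
    · subst h3
      exact h62 F h
    have h4 := H356.KillPSp.card (F := F) (m := 3) (by norm_num)
    rw [h] at h4
    have h5 : Nat.card (PSp 3 F) = 2 ^ 9 * (3 ^ 4 * (5 * 7)) := by
      simp only [Finset.prod_range_succ, Finset.prod_range_zero] at h4
      norm_num at h4 ⊢
      exact h4
    have : Finite (PSp 3 F) := Nat.finite_of_card_ne_zero (by rw [h5]; norm_num)
    refine hSm l _ (Or.inl fun h6 => ?_)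
    rw [h5] at h6
    have h7 : l ^ 3 ∣ 5 * 7 := ((Nat.coprime_primes hl.out Nat.prime_three).2 h3).pow 3 4 |>.dvd_of_dvd_mul_left
      ((((Nat.coprime_primes hl.out Nat.prime_two).2 h2).pow 3 9).dvd_of_dvd_mul_left h6)
    have h8 := Nat.le_of_dvd (by norm_num) h7
    have h9 : l < 4 := lt_of_pow_lt_pow_left₀ 3 (by norm_num) (by omega)
    have := hl.out.two_le
    omega
  obtain ⟨p, hp⟩ := CharP.exists F
  have : Fact p.Prime := ⟨CharP.char_is_prime F p⟩
  obtain ⟨k, _, _, _, hk, e', he, f, hq⟩ := hasC p F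
  have hlp : l ≠ p := fun h => hF (h ▸ CharP.cast_eq_zero F p)
  have := (datC m hk he).amb.finite_GF (GC m k)
  let π : GF (FC m k p e') (GC m k) →* PSp m F := (QuotientGroup.mk' _).comp (eqvC f hq).symm.toMonoidHom
  have h1 : π.ker = (Subgroup.center _).map (eqvC f hq).toMonoidHom := by
    rw [← MonoidHom.comap_ker, QuotientGroup.ker_mk', Subgroup.map_equiv_eq_comap_symm']
  have h3 : Nat.card π.ker = Nat.gcd 2 (Fintype.card F - 1) := by
    rw [h1, Subgroup.card_map_of_injective (eqvC f hq).injective, LieClassical.SympCenter.card_center (by omega)]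
  refine hMu l _ _ π ((QuotientGroup.mk'_surjective _).comp (eqvC f hq).symm.surjective) ?_ ?_ ?_ _ 0
    (S2092.result rfl m hm hm2 h) ?_ fun M hM => C.kmg (datC_qs hk he) (C.dwR (datC m hk he) (ntC he)) hl.out hlp
      (torC hk he hl.out h2 hlp) hM
  · rw [h1]
    rintro _ ⟨z, hz, rfl⟩
    refine Subgroup.mem_center_iff.2 fun g => ?_
    obtain ⟨g, rfl⟩ := (eqvC f hq).surjective g
    rw [MulEquiv.coe_toMonoidHom, ← map_mul, ← map_mul, Subgroup.mem_center_iff.1 hz]
  · have h4 := S0269.result (F := F) m (by omega)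
    rw [commutator_def, ← Subgroup.map_top_of_surjective (eqvC f hq).toMonoidHom (eqvC f hq).surjective, ← Subgroup.map_commutator,
      ← commutator_def, h4]
  · rw [h3]
    exact fun h => h2 ((Nat.prime_dvd_prime_iff_eq hl.out Nat.prime_two).1 (h.trans (Nat.gcd_dvd_left _ _)))
  · rw [h3, pow_zero, mul_one, Nat.card_congr Multiplicative.toAdd, Nat.card_zmod]

end Cfsg.Agent.KM.ScC
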