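import Cfsg.Agent.KM.Sc.BD1
import Cfsg.Agent.KM.Sc.C
import Cfsg.Agent.KM.Xc.Tor
import Cfsg.Agent.LV.Rk.Frame

/-!
# KM (S4999): the exceptional covers of `Ω₈⁺(2)` and `Sp₆(2)` at the prime three (helper31)
-/

set_option autoImplicit false
set_option maxHeartbeats 400000
set_option linter.unusedSectionVars false

namespace Cfsg.Agent.KM.BD

open Cfsg Cfsg.Agent.DL Cfsg.Agent.KZ.Dat Cfsg.Agent.KZ.Dat.Om Cfsg.Agent.KM.Sp Cfsg.Agent.KM.Xc Matrix
  Cfsg.Agent.LieClassical.OrthForms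
open Cfsg.Agent.TO.X.Cn (Pi1)

section dat

variable {k : Type} [Field k] {p : ℕ} [Fact p.Prime] [CharP k p] [IsAlgClosed k]
  (hk : ∀ a : k, ∃ j, 0 < j ∧ a ^ p ^ j = a) {e : ℕ} (he : 0 < e)

theorem pi1P4 : Pi1 (datP 2 hk he) 2 :=
  TO.X.Cn.pi1_of_mat _ (![![2, 2, 1, 1], ![0, 2, 1, 1], ![0, 0, 1, 1], ![0, 0, -1, 1]] : Fin 4 → Fin 4 → ℤ) fun j m => by
    have h : ∀ j m : Fin 4, ∑ i : Fin 4, (![![2, 2, 1, 1], ![0, 2, 1, 1], ![0, 0, 1, 1], ![0, 0, -1, 1]] : Fin 4 → Fin 4 → ℤ) j i *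
        Nodes.TypeD.bt (n := 2) i m = if j = m then 2 else 0 := by decide
    exact (Finset.sum_congr rfl fun i _ => congrArg (fun w : Fin 4 → ℤ => _ * w m) (datD_cw _ hk he i)).trans (h j m)

theorem levP {n l : ℕ} (hl : Odd l) : Tor.Lev (datP n hk he) l := fun j u => by
  obtain ⟨v, hv⟩ := ScC.bal (n := n + 2) (hl.pow (n := j)) u
  refine ⟨1, isCoprime_one_left, v, fun a ha h => ?_⟩
  obtain ⟨x, y, -, h1⟩ := (rtD_iff _ hk he).1 ha
  rw [h1] at h ⊢
  rw [Nat.cast_pow] at hv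
  exact hv x y h

include he in
theorem fqP (n : ℕ) : SB.Exc.Card.Fq p (MonoidHom.id _) ((osD n).sy_id.F k p e) e :=
  ⟨he, 1, one_pos, fun y => by
    rw [pow_one, mul_one, MonoidHom.id_apply, OS.Sy.F_apply, rr_id, one_mul, inv_one, mul_one]; rfl⟩

include he in
theorem fqC (n : ℕ) : SB.Exc.Card.Fq p (MonoidHom.id (GL (Fin n × Bool) k)) (FC n k p e) e :=
  ⟨he, 1, one_pos, fun y => by rw [pow_one, mul_one, FC, one_mul]; rfl⟩

end dat

section two

variable {k : Type} [Field k] [Fact (Nat.Prime 2)] [CharP k 2] [IsAlgClosed k]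
  (hk : ∀ a : k, ∃ j, 0 < j ∧ a ^ 2 ^ j = a)

include hk

theorem noA_P : NoA 3 3 ↥(GF ((osD 2).sy_id.F k 2 1) ((osD 2).G k)) := by
  have : Fact (Nat.Prime 3) := ⟨Nat.prime_three⟩
  have := Asm.finite_GF (datP 2 hk one_pos)
  have := Fintype.ofFinite ↥(GF ((osD 2).sy_id.F k 2 1) ((osD 2).G k))
  refine (Cv.ofEquiv (MulEquiv.refl _)).noA_of_lev (datP 2 hk one_pos) (pi1P4 hk one_pos) (by decide) (by decide)
    (levP hk one_pos (by decide)) (MulEquiv.refl _).injective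
    (Cv.tb_of_bound _ _ (fqP one_pos 2) (fun s hs h2 h3 => five_le hs h2 h3) ?_) fun hA => ?_
  · show (2 ^ 1 + 1) ^ Fintype.card (Fin 4) < 3 ^ 3 * 5
    rw [Fintype.card_fin]
    decide
  · have := LV.Rk.bd3 _ (LV.Rk.mxP hk one_pos 2) (by decide) hA
    omega

theorem noA_C : NoA 3 3 ↥(GF (FC 3 k 2 1) (GC 3 k)) := by
  have : Fact (Nat.Prime 3) := ⟨Nat.prime_three⟩
  have := Asm.finite_GF (datC 3 hk one_pos)
  have := Fintype.ofFinite ↥(GF (FC 3 k 2 1) (GC 3 k))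
  refine (Cv.ofEquiv (MulEquiv.refl _)).noA_of_lev (datC 3 hk one_pos) (ScC.pi1C hk one_pos) (by decide) (by decide)
    (ScC.levC hk one_pos (by decide)) (MulEquiv.refl _).injective
    (Cv.tb_of_bound _ _ (fqC one_pos 3) (fun s hs h2 h3 => five_le hs h2 h3) ?_) fun hA => ?_
  · show (2 ^ 1 + 1) ^ Fintype.card (Fin 3) < 3 ^ 3 * 5
    rw [Fintype.card_fin]
    decide
  · rcases LV.Rk.bd3 _ (LV.Rk.mxC hk one_pos 2) (by decide) hA with h | h
    · omega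
    · exact h.2

end two

theorem field_two (F : Type) [Field F] [Fintype F] (hF : Fintype.card F = 2) :
    ∃ (k : Type) (_ : Field k) (_ : CharP k 2) (_ : IsAlgClosed k) (_ : ∀ a : k, ∃ j, 0 < j ∧ a ^ 2 ^ j = a),
      Nonempty (F →+* k) := by
  have : Fact (Nat.Prime 2) := ⟨Nat.prime_two⟩
  have : CharP F 2 := charP_of_card_eq_prime hF
  obtain ⟨k, _, _, _, hk, -, -, f, -⟩ := hasC 2 F
  exact ⟨k, _, ‹_›, ‹_›, hk, ⟨f⟩⟩

theorem noA_s62 (F : Type) [Field F] [Fintype F] (hF : Fintype.card F = 2) : NoA 3 3 (PSp 3 F) := by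
  have : Fact (Nat.Prime 2) := ⟨Nat.prime_two⟩
  have : Fact (Nat.Prime 3) := ⟨Nat.prime_three⟩
  obtain ⟨k, _, _, _, hk, ⟨f⟩⟩ := field_two F hF
  have h1 : Subgroup.center (symplecticGroup (Fin 3) F) = ⊥ := by
    rw [← Subgroup.card_eq_one, LieClassical.SympCenter.card_center (by omega), hF]
    decide
  have e : ↥(GF (FC 3 k 2 1) (GC 3 k)) ≃* PSp 3 F := (eqvC (p := 2) (e := 1) f hF).symm.trans
    ((QuotientGroup.quotientMulEquivOfEq h1).trans QuotientGroup.quotientBot).symm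
  have := Asm.finite_GF (datC 3 hk one_pos)
  have := Finite.of_equiv _ e.toEquiv
  exact (noA_C hk).congr e

/-- **`Sp₆(2)`** -/
theorem s62 (F : Type) [Field F] [Fintype F] (hF : Fintype.card F = 2) : Row 3 (PSp 3 F) :=
  have : Fact (Nat.Prime 3) := ⟨Nat.prime_three⟩
  row_of_noA (noA_s62 F hF)

theorem noA_o82 (F : Type) [Field F] [Fintype F] (hF : Fintype.card F = 2) :
    NoA 3 3 (POmega F (quadFormPlus 4 F)) := by
  have : Fact (Nat.Prime 2) := ⟨Nat.prime_two⟩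
  have : Fact (Nat.Prime 3) := ⟨Nat.prime_three⟩
  obtain ⟨k, _, _, _, hk, ⟨f⟩⟩ := field_two F hF
  have := ODD.C2.finD 2
  rw [← coe_plusForm]
  have hQ : Nice (plusForm 4 F) := nice_of (nondeg_plusForm _ _) (by simp) (.inl 0)
    (by simp [coe_plusForm, quadFormPlus_apply])
  have T := bcP (p := 2) f 4 1
  have h2 : (2 : F) = 0 := f.injective (by rw [map_ofNat, map_zero, ← CharP.cast_eq_zero k 2, Nat.cast_ofNat])
  have h1 : Subgroup.center (Omega F (plusForm 4 F)) = ⊥ := by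
    refine eq_bot_iff.2 fun z hz => T.io_inj (Units.ext ?_)
    rw [map_one]
    rcases T.cen hQ hz with h | h
    · exact h
    · rw [h, Units.val_one]
      ext i j
      exact CharTwo.neg_eq _
  have hm := T.io_mem (osD 2).sy_id h2D (e := 1) hF hQ (0, true)
  have e : Omega F (plusForm 4 F) ≃* ↥(GF ((osD 2).sy_id.F k 2 1) ((osD 2).G k)) :=
    MulEquiv.ofBijective (T.io.codRestrict _ hm) ⟨fun _ _ h => T.io_inj (congrArg Subtype.val h), fun u => by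
      obtain ⟨g, h3, h4⟩ := (T.mem_GF (osD 2).sy_id h2D (e := 1) hF hQ (0, true)).1 u.2
      exact ⟨⟨g, (H183.mem_Omega_iff_dsign _ h2 hQ.nd (.inr hQ.ne) g).2 h3⟩, Subtype.ext h4⟩⟩
  have e' := e.symm.trans ((QuotientGroup.quotientMulEquivOfEq h1).trans QuotientGroup.quotientBot).symm
  have := Asm.finite_GF (datP 2 hk one_pos)
  have := Finite.of_equiv _ e'.toEquiv
  exact (noA_P hk).congr e'

/-- **`Ω₈⁺(2)`** -/
theorem o82 : O82 := fun F _ _ hF =>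
  have : Fact (Nat.Prime 3) := ⟨Nat.prime_three⟩
  row_of_noA (noA_o82 F hF)

end Cfsg.Agent.KM.BD
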