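import Cfsg.Agent.KM.Sc.Isog
import Cfsg.Agent.KM.Tor.E6D

/-!
# KM: the lattices of an isogeny (helper5)

`Isog.Mx_P`, `Isog.Wm_P`, `Isog.cor`, `Isog.rg` (the image of `P` is the coroot lattice), `Isog.dl`, `Isog.ker_le`,
`Isog.pull'`.
-/

set_option autoImplicit false
set_option linter.unusedSectionVars false

namespace Cfsg.Agent.KM.Sc

open Cfsg Cfsg.Agent.DL Matrix Cfsg.Agent.KM.Ht Cfsg.Agent.KM.Tor Cfsg.Agent.Tits.Roots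
open Cfsg.Agent.TO.X.Cn (Pi1 cl exists_cl cl_add cl_smul cl_sr exists_exp)

variable {p : ℕ} [Fact p.Prime] {k : Type} [Field k] [CharP k p] [IsAlgClosed k]
  {Y' : Type} [Group Y'] {N' : Type} [Fintype N'] [DecidableEq N'] {ρ' : Y' →* GL N' k} {F' : MulAut Y'}
  {G' : Subgroup Y'} {Y : Type} [Group Y] {N : Type} [Fintype N] [DecidableEq N] {ρ : Y →* GL N k} {F : MulAut Y}
  {G : Subgroup Y}

/-- the coroot lattice -/
noncomputable def QL (X : Datum p ρ F G) : AddSubgroup (X.R → ℤ) := (AddMonoidHom.mk' (cl X) (cl_add X)).range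

theorem mem_QL {X : Datum p ρ F G} {v : X.R → ℤ} : v ∈ QL X ↔ InQ X v := exists_congr fun _ => eq_comm

theorem cor_QL {X : Datum p ρ F G} {a : X.I → ℤ} (ha : X.Rt a) : X.cor a ∈ QL X := by
  obtain ⟨w, i, rfl⟩ := ha
  obtain ⟨β, h⟩ := exists_cl X (X.cw i) w
  exact ⟨sr i + β, (cl_add X _ _).trans (by rw [cl_sr, ← h]; exact (X.cor_act_sr w i).symm)⟩

theorem QL_le {X : Datum p ρ F G} {S : AddSubgroup (X.R → ℤ)} (h : ∀ a, X.Rt a → X.cor a ∈ S) : QL X ≤ S := by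
  rintro _ ⟨β, rfl⟩
  exact sum_mem fun i _ => zsmul_mem (X.cor_sr i ▸ h _ (isRoot_sr _ _ i)) _

theorem wt_cor {X : Datum p ρ F G} {a : X.I → ℤ} (ha : X.Rt a) : X.wt a ⬝ᵥ X.cor a = 2 :=
  (X.pair_cor ha a).trans (Nodes.Coroot.cpr_self _ _ ha)

theorem Wm_rf_vec {X : Datum p ρ F G} {a : X.I → ℤ} (ha : X.Rt a) (v : X.R → ℤ) :
    X.Wm (X.rf a) *ᵥ v = v - (X.wt a ⬝ᵥ v) • X.cor a := by
  rw [X.Wm_rf ha, sub_mulVec, one_mulVec, vecMulVec_mulVec, op_smul_eq_smul]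

/-- a reflection is determined by its root -/
theorem eq_cor {X : Datum p ρ F G} {a : X.I → ℤ} (ha : X.Rt a) {w : X.W} {c : X.R → ℤ} (h2 : X.wt a ⬝ᵥ c = 2)
    (h : ∀ v, X.Wm w *ᵥ v = v - (X.wt a ⬝ᵥ v) • c) : c = X.cor a := by
  have h3 : ∀ v, X.Wm (w * X.rf a) *ᵥ v = v + (X.wt a ⬝ᵥ v) • (c - X.cor a) := fun v => by
    rw [X.Wm_mul, ← mulVec_mulVec, h, Wm_rf_vec ha, dotProduct_sub, dotProduct_smul, wt_cor ha, smul_eq_mul]
    module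
  have h4 : ∀ n : ℕ, X.Wm ((w * X.rf a) ^ n) *ᵥ c = c + (2 * n : ℤ) • (c - X.cor a) := fun n => by
    induction n with
    | zero => simp [X.Wm_one]
    | succ n ih =>
      rw [pow_succ', X.Wm_mul, ← mulVec_mulVec, ih, h3, dotProduct_add, dotProduct_smul, dotProduct_sub, h2, wt_cor ha,
        sub_self, smul_zero, add_zero, Nat.cast_succ]
      module
  have h5 := h4 (orderOf (w * X.rf a))
  rw [pow_orderOf_eq_one, X.Wm_one, one_mulVec, left_eq_add, smul_eq_zero] at h5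
  exact sub_eq_zero.1 (h5.resolve_left (by have := orderOf_pos (w * X.rf a); omega))

namespace Isog

variable {X' : Datum p ρ' F' G'} {X : Datum p ρ F G} {θ : Y' →* Y} {z : ℕ} (I : Isog X' X θ z)

theorem QP_vec (u : X'.R → ℤ) : I.Q *ᵥ (I.P *ᵥ u) = (z : ℤ) • u := by rw [mulVec_mulVec, I.QP, smul_mulVec, one_mulVec]

theorem PQ_vec (u : X.R → ℤ) : I.P *ᵥ (I.Q *ᵥ u) = (z : ℤ) • u := by rw [mulVec_mulVec, I.PQ, smul_mulVec, one_mulVec]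

theorem P_inj {u v : X'.R → ℤ} (h : I.P *ᵥ u = I.P *ᵥ v) : u = v :=
  smul_right_injective _ (Int.natCast_ne_zero.2 I.pos.ne') (show (z : ℤ) • u = (z : ℤ) • v by
    rw [← I.QP_vec, h, I.QP_vec])

theorem Mx_P (u : X'.R → ℤ) : X.Mx *ᵥ (I.P *ᵥ u) = I.P *ᵥ (X'.Mx *ᵥ u) := coch_inj (k := k) fun a => X.τ_inj (by
  rw [← mon_coch, ← X.F_τ, ← I.tau_coch, ← I.tau_coch, ← mon_coch, ← X'.F_τ, I.comm])

theorem Wm_P {w' : X'.W} {w : X.W} {m : Y'} (h' : X'.Rp w' m) (h : X.Rp w (θ m)) (u : X'.R → ℤ) :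
    X.Wm w *ᵥ (I.P *ᵥ u) = I.P *ᵥ (X'.Wm w' *ᵥ u) := coch_inj (k := k) fun a => X.τ_inj (by
  rw [← mon_coch, ← X.conj_τ h, ← I.tau_coch, ← I.tau_coch, ← mon_coch, ← X'.conj_τ h', map_mul, map_mul, map_inv])

/-- the coroots correspond -/
theorem cor {a' : X'.I → ℤ} {a : X.I → ℤ} (ha' : X'.Rt a') (ha : X.Rt a) (h : X'.wt a' = X.wt a ᵥ* I.P) :
    I.P *ᵥ X'.cor a' = X.cor a := by
  obtain ⟨m, hm, -⟩ := X'.exists_rp (X'.rf a')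
  obtain ⟨w, hw⟩ := I.map_mem_NN ⟨_, hm⟩
  refine eq_cor ha (w := w) (by rw [dotProduct_mulVec, ← h, wt_cor ha']) fun v =>
    smul_right_injective _ (Int.natCast_ne_zero.2 I.pos.ne') (show (z : ℤ) • _ = (z : ℤ) • _ from ?_)
  rw [← mulVec_smul, ← I.PQ_vec, I.Wm_P hm hw, Wm_rf_vec ha', mulVec_sub, mulVec_smul, h, ← dotProduct_mulVec, I.PQ_vec,
    dotProduct_smul, smul_sub, smul_assoc]

/-- the image of `P` is the coroot lattice -/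
def Rg : Prop := ∀ v, InQ X v ↔ ∃ u, I.P *ᵥ u = v

theorem rg (h1 : Pi1 X' 1) {f : ℤ} (hf : f ≠ 0) (h3 : ∀ v, InQ X (f • v)) : I.Rg := by
  have k : (QL X').map (AddMonoidHom.mk' (I.P *ᵥ ·) (mulVec_add _)) = QL X := le_antisymm
    (AddSubgroup.map_le_iff_le_comap.2 (QL_le fun a' ha' =>
      let ⟨_, ha, e⟩ := I.root a' ha'
      show I.P *ᵥ _ ∈ QL X from (I.cor ha' ha e).symm ▸ cor_QL ha))
    (QL_le fun a ha =>
      let ⟨_, ha', e⟩ := I.root' a ha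
      ⟨_, cor_QL ha', I.cor ha' ha e⟩)
  refine fun v => ⟨fun h => (k.ge (mem_QL.2 h)).imp fun _ e => e.2, ?_⟩
  rintro ⟨u, rfl⟩
  obtain ⟨_, ⟨β, rfl⟩, e⟩ := k.ge (mem_QL.2 (h3 (I.P *ᵥ u)))
  obtain ⟨γ, hγ⟩ := h1 u f β hf (I.P_inj ((mulVec_smul _ _ _).trans e.symm))
  rw [Nat.cast_one, one_smul] at hγ
  exact mem_QL.1 (k.le ⟨u, ⟨γ, hγ.symm⟩, rfl⟩)

variable {I}

theorem dl (h : I.Rg) : Dl X ((GF F' G').map θ) := by
  refine ⟨fun u β ζ hu hβ e => ?_, fun t ht ⟨s, hs, e⟩ => ?_⟩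
  · obtain ⟨u, rfl⟩ := (h u).1 hu
    obtain ⟨β, rfl⟩ := (h β).1 hβ
    rw [I.Mx_P, ← mulVec_smul, ← mulVec_add] at e
    refine ⟨_, ⟨X'.T_le_G (X'.τ_mem _), ?_⟩, I.tau_coch u ζ⟩
    show F' _ = X'.τ _
    rw [X'.F_τ, mon_coch, I.P_inj e, coch_add, coch_zsmul, zpow_natCast, pow_orderOf_eq_one, map_one, mul_one]
  · obtain ⟨ζ, u, -, -, rfl⟩ := exists_exp X' (I.mem_T hs.1 (e ▸ ht))
    have h1 : F' _ = X'.τ _ := hs.2
    rw [X'.F_τ, mon_coch] at h1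
    have h2 : ∀ j, (orderOf ζ : ℤ) ∣ (X'.Mx *ᵥ u) j - u j := fun j => by
      rw [orderOf_dvd_iff_zpow_eq_one, _root_.zpow_sub, show ζ ^ (X'.Mx *ᵥ u) j = ζ ^ u j from congrFun (X'.τ_inj h1) j, mul_inv_cancel]
    choose β hβ using h2
    refine ⟨_, _, ζ, (h _).2 ⟨u, rfl⟩, (h _).2 ⟨β, rfl⟩, ?_, e.symm.trans (I.tau_coch u ζ)⟩
    rw [I.Mx_P, ← mulVec_smul, ← mulVec_add]
    exact congrArg _ (funext fun j => eq_add_of_sub_eq' (hβ j))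

/-- the kernel lies in `Z0` -/
theorem ker_le (hz : z.Prime) (h : I.Rg) {A : Set Y'} (hA : A ⊆ X'.T) {v : X.R → ℤ} (hv : Pp X (X.Sz (θ '' A)) v)
    (hi : ∀ μ, ∃ c : ℤ, InQ X (μ + c • v)) {x : Y'} (hx : x ∈ G') (e : θ x = 1) : x ∈ Z0 X' A := by
  obtain ⟨ζ, u, -, h1, rfl⟩ := exists_exp X' (I.ker x hx e)
  rcases (Nat.dvd_prime hz).1 (h1.trans (orderOf_dvd_of_pow_eq_one (I.pow_eq_one hx e))) with h2 | h2
  · rw [orderOf_eq_one_iff.1 h2, map_one, map_one]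
    exact one_mem _
  rw [I.tau_coch, ← map_one X.τ] at e
  choose μ hμ using fun j => show (z : ℤ) ∣ (I.P *ᵥ u) j from
    (congrArg Nat.cast h2).symm.dvd.trans (orderOf_dvd_iff_zpow_eq_one.2 (congrFun (X.τ_inj e) j))
  obtain ⟨c, hc⟩ := hi μ
  obtain ⟨ν, hν⟩ := (h _).1 hc
  have h3 : u = (-c) • I.Q *ᵥ v + (z : ℤ) • ν := I.P_inj (by
    rw [mulVec_add, mulVec_smul, mulVec_smul, I.PQ_vec, hν, show I.P *ᵥ u = (z : ℤ) • μ from funext hμ]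
    module)
  rw [h3, coch_add, coch_zsmul _ ν, zpow_natCast, orderOf_dvd_iff_pow_eq_one.1 h2.dvd, map_one, mul_one]
  refine mem_Z0 (fun a' ha' => ?_) ζ
  obtain ⟨a, ha, e⟩ := I.root a' ha'.1
  have h4 := hv a ⟨ha, by
    rintro _ ⟨t, ht, rfl⟩
    rw [I.chi e (hA ht)]
    exact ha'.2 t ht⟩
  rw [dotProduct_smul, e, ← dotProduct_mulVec, I.PQ_vec, dotProduct_smul, h4, smul_zero, smul_zero]

/-- **the preimage of a toral group is toral if the centre lies in `Z0`** -/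
theorem pull' (hz : z.Prime) (h : I.Rg) (hi : ∀ v, ¬ InQ X v → ∀ μ, ∃ c : ℤ, InQ X (μ + c • v)) {D : Subgroup Y'}
    (hD : D ≤ G') (h1 : Toral3 X (D.map θ)) : Toral X' D := by
  obtain ⟨y, hy, hN, h1, v, h2, h3⟩ := h1
  obtain ⟨y, hy', rfl⟩ := I.surj y hy
  refine ⟨y, hy', I.lang_NN hy' hN, fun d hd => ?_⟩
  let J := I.conj hy' (I.lang_NN hy' hN) hy hN
  have hT : D ≤ _ := fun d hd => J.mem_T (hD hd) (Z0_le_T _ _ (h1 ⟨d, hd, rfl⟩))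
  obtain ⟨s, hs, e⟩ := J.Z0_le (A := D) hT (h1 ⟨d, hd, rfl⟩)
  have h4 := ker_le (I := J) hz h hT h2 (hi v fun ⟨β, e⟩ => h3 β e)
    (mul_mem (hD hd) (inv_mem (Datum.T_le_G _ (Z0_le_T _ _ hs)))) (by rw [map_mul, map_inv, e, mul_inv_cancel])
  simpa only [inv_mul_cancel_right] using mul_mem h4 hs

/-- `Dl` in all frames -/
theorem dl_conj (h : I.Rg) (g : Y) (hg : g ∈ G) (hN : g⁻¹ * F g ∈ X.NN) : Dl (X.conj hg hN) ((GF F' G').map θ) := by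
  obtain ⟨y, hy', rfl⟩ := I.surj g hg
  exact dl (I := I.conj hy' (I.lang_NN hy' hN) hg hN) h

end Isog

end Cfsg.Agent.KM.Sc
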