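import Cfsg.Agent.KM.Sc.E1
import Cfsg.Agent.TwoF.DC.TE.Main
import Cfsg.Agent.S1066

/-!
# KM (S4999): the simply connected groups of type `E₆`, `²E₆`, `E₇` (helper5)

`hasSc_E6`, `hasSc_E7`, `hasSc_2E6`; the rows `row_e6'`, `row_e7'`, `row_te6'`.
-/

set_option autoImplicit false
set_option linter.unusedSectionVars false
set_option linter.unusedVariables false

namespace Cfsg.Agent.KM.Sc

open Cfsg Cfsg.Lie Cfsg.Agent.DL Cfsg.Agent.DL.Ex Cfsg.Agent.TwoF.DC Cfsg.Agent.KZ.DatX Cfsg.Agent.TwoF.DC.TE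
  Cfsg.Agent.H129.TorusChar Cfsg.Agent.BpExc
open Cfsg.Agent.ChevalleyStructure.StTheta (theta)
open Cfsg.Agent.ChevalleyStructure.StEmbed (emb67 emb78 hom)

section St

variable (p : ℕ) [Fact p.Prime] (k : Type) [Field k] [IsAlgClosed k] [CharP k p]

theorem inj6 : Function.Injective (((theta TE.hp8.inList k).comp (hom emb78 k)).comp (hom emb67 k)) :=
  (up6 k).inj TE.hp6 (by simp) (fu8 k) (S1054.result _ (by simp)).1 0

theorem inj7 : Function.Injective ((theta TE.hp8.inList k).comp (hom emb78 k)) :=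
  (up7 k).inj TE.hp7 (by simp) (fu8 k) (S1054.result _ (by simp)).1 0

theorem stE6 : StE (d6 k p) :=
  ⟨st6 p k, (up6 k).rdat_w TE.hp6 (inj6 k) (tab_rc TE.hp6 sl6) (fu8 k) p, fun _ _ => rfl, tab_rc TE.hp6 sl6⟩

theorem stE7 : StE (d7 k p) :=
  ⟨st7 p k, (up7 k).rdat_w TE.hp7 (inj7 k) (tab_rc TE.hp7 sl7) (fu8 k) p, fun _ _ => rfl, tab_rc TE.hp7 sl7⟩

end St

section Has

variable (hD : BoxDat2) {p : ℕ} [hp : Fact p.Prime] {F : Type} [Field F] [Fintype F] [CharP F p] {e : ℕ}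
include hD

theorem hasSc_E6 (hF : Fintype.card F = p ^ e) :
    HasSc hpE6 p ((p : ℤ) ^ e • 1) (AdmL p [1, P6]) 3 (Nat.gcd 3 (p ^ e - 1)) ↥(chevE6.group F) := by
  have := charP_closure p F
  have he := pos_of_card hF
  let k := AlgebraicClosure F
  let P := tw6 p k e he 1
  have hc := fa_of_faith (comb_E6 P car6 tw6_gι).faith 0
  have h1 := S1054.result (F := F) chevE6 (by simp)
  refine (stE6 p k).hasSc hpE6 P hD (by simp) three_pos invC_E6 (up6 k) (inj6 k) hc rfl (xfS hpE6 p (locFin_closure F) he)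
    (Gd.frob hpE6 p k e) (fun _ => rfl) (fun _ => rfl)
    (xsS (algebraMap F k) (locFin_closure F) he hF (over_E6 _ hF hpE6) (cop_sub hp.out.pos he 3)
      (fun _ => index_dvd_E6 _ hF hpE6)
      List.mem_cons_self (grL_E6 p _ F)) (index_dvd_E6 _ hF hpE6) h1.1 h1.2
    (pi_untw (st6 p k) TE.hp6 P hc (fun _ => rfl) (algebraMap F k) hF) (a := 0) (S2105.result hF)
    (by rw [BD.card_cyc, pow_zero, mul_one]) (Nat.gcd_pos_of_pos_left _ three_pos) ?_
  refine le_card_Zc P Nat.prime_three ![1, 0, 2, 0, 1, 2] 0 rfl (fun i => ?_) fun hm =>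
    ⟨not_dvd_of hp.out Nat.prime_three he (Or.inl hm), fun i => ?_⟩
  · change _ ∣ ∑ j, _ * ChevalleyStructure.CoxeterGeomTypes.cartanOf chevE6 6 j i
    revert i; decide +kernel
  · conv_lhs => rw [← mul_one (![1, 0, 2, 0, 1, 2] _)]
    exact Nat.ModEq.mul_left _ ((Nat.modEq_iff_dvd' (Nat.one_le_pow _ _ hp.out.pos)).mpr hm)

theorem hasSc_E7 (hF : Fintype.card F = p ^ e) :
    HasSc hpE7 p ((p : ℤ) ^ e • 1) (AdmL p [1]) 2 (Nat.gcd 2 (p ^ e - 1)) ↥(chevE7.group F) := by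
  have := charP_closure p F
  have he := pos_of_card hF
  let k := AlgebraicClosure F
  let P := tw0 (st7 p k) e he
  have hc := fa_of_faith (comb_E7 P car7 fun _ => rfl).faith 0
  have h1 := S1054.result (F := F) chevE7 (by simp)
  refine (stE7 p k).hasSc hpE7 P hD (by simp) two_pos invC_E7 (up7 k) (inj7 k) hc rfl (xfS hpE7 p (locFin_closure F) he)
    (Gd.frob hpE7 p k e) (fun _ => rfl) (fun _ => rfl)
    (xsS (algebraMap F k) (locFin_closure F) he hF (over_E7 _ hF hpE7) (cop_sub hp.out.pos he 2)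
      (fun _ => index_dvd_E7 _ hF hpE7)
      List.mem_cons_self (grL_E7 p _ F)) (index_dvd_E7 _ hF hpE7) h1.1 h1.2
    (pi_untw (st7 p k) TE.hp7 P hc (fun _ => rfl) (algebraMap F k) hF) (a := 0) (S2106.result hF)
    (by rw [BD.card_cyc, pow_zero, mul_one]) (Nat.gcd_pos_of_pos_left _ two_pos) ?_
  refine le_card_Zc P Nat.prime_two ![0, 1, 0, 0, 1, 0, 1] 1 rfl (fun i => ?_) fun hm =>
    ⟨not_dvd_of hp.out Nat.prime_two he (Or.inl hm), fun i => ?_⟩
  · change _ ∣ ∑ j, _ * ChevalleyStructure.CoxeterGeomTypes.cartanOf chevE7 7 j i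
    revert i; decide +kernel
  · conv_lhs => rw [← mul_one (![0, 1, 0, 0, 1, 0, 1] _)]
    exact Nat.ModEq.mul_left _ ((Nat.modEq_iff_dvd' (Nat.one_le_pow _ _ hp.out.pos)).mpr hm)

theorem hasSc_2E6 (hK : Fintype.card F = (p ^ e) ^ 2) :
    HasSc hpE6 p ((p : ℤ) ^ e • P6) (AdmF p) 3 (Nat.gcd 3 (p ^ e + 1)) ↥(twistedE6 F (p ^ e)) := by
  have := charP_closure p F
  have he : 0 < e := by
    have h := pos_of_card (hK.trans (pow_mul _ _ _).symm)
    omega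
  have hk := locFin_closure F
  let k := AlgebraicClosure F
  let P := tw6 p k e he (-1)
  have hc := fa_of_faith (comb_E6 P car6 tw6_gι).faith 0
  have hq : IsPrimePow (p ^ e) := isPrimePow_pow he
  have h1 := S1070.result hq hK
  obtain ⟨A, _, a, h2, h3⟩ : ∃ (A : Type) (_ : CommGroup A) (a : ℕ), HasSchurMultiplier ↥(twistedE6 F (p ^ e)) A ∧
      Nat.card A ∣ Nat.gcd 3 (p ^ e + 1) * p ^ a := by
    by_cases h2 : p ^ e = 2
    · obtain rfl : p = 2 := (Nat.prime_dvd_prime_iff_eq hp.out Nat.prime_two).mp (h2 ▸ dvd_pow_self p he.ne')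
      rw [h2] at hK ⊢
      exact ⟨_, _, 2, S2109.result hK, by simp⟩
    · exact cyc p (S2108.result hq hK h2)
  let G := (gd6 p k).mul (Gd.frob hpE6 p k e)
  refine (stE6 p k).hasSc hpE6 P hD (by simp) three_pos invC_E6 (up6 k) (inj6 k) hc rfl
    (xfG hk (amb_of_pow hk two_pos (by omega) (sigE6_sq (m := e))) G (pm_frob pi6)) G (fun _ => rfl) (fun _ => rfl)
    (xsT hk _ G _ (over_2E6 (algebraMap F _) he hK) (cop_add he 3) (fun _ => index_dvd_2E6 _ he hK) fun σ => ?_)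
    (index_dvd_2E6 _ he hK) h1.1 h1.2 (pi_tw he hc (algebraMap F k) hq hK) h2 h3
    (Nat.gcd_pos_of_pos_left _ three_pos) ?_
  · obtain ⟨φ, hφ, hqq⟩ := ChevalleyStructure.TwE6Basic.exists_frob hq hK
    have hW : Finite CoxeterMatrix.F₄.Group := Nodes.RGDChev.finite_W hpF4 CoxeterMatrix.F₄.toCoxeterSystem
    obtain ⟨-, τ, y, -, h1, h2⟩ := FamTw.Six.exists_lift hφ hqq CoxeterMatrix.F₄.toCoxeterSystem p
      (algebraMap F k) hK hq.one_lt (fun a => IsAlgClosed.exists_pow_nat_eq _ three_pos)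
      (Φ := iterateFrobeniusEquiv k p e) (fun a => by rw [hφ, map_pow, iterateFrobeniusEquiv_def]) σ
    obtain ⟨j, hj⟩ := exists_frob p τ
    refine ⟨y, Subtype.ext (congrArg Subtype.val h1), j, fun s => (h2 s).trans ?_⟩
    congr 2
    exact frob_eq (hp := hpE6) _ hj rfl rfl
  · refine le_card_Zc P Nat.prime_three ![1, 0, 2, 0, 1, 2] 0 rfl (fun i => ?_) fun hm =>
      ⟨not_dvd_of hp.out Nat.prime_three he (Or.inr hm), fun i => ?_⟩
    · change _ ∣ ∑ j, _ * ChevalleyStructure.CoxeterGeomTypes.cartanOf chevE6 6 j i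
      revert i; decide +kernel
    · change ![1, 0, 2, 0, 1, 2] (H129.StTw.nod i) % 3 = ![1, 0, 2, 0, 1, 2] i * p ^ e % 3
      fin_cases i <;> simp [H129.StTw.nod] <;> omega

end Has

/-! ### the rows -/

/-- what is needed for `E₆(q)` -/
def TE6 (l : ℕ) : Prop := ∀ (r e : ℕ) [Fact r.Prime] (F : Type) [Field F] [Fintype F], Fintype.card F = r ^ e → 0 < e →
  l ≠ r → TI hpE6 (AdmL r [1, P6]) (Nat.gcd 3 (r ^ e - 1)) ↥(chevE6.group F) ((r : ℤ) ^ e • 1) r l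

/-- what is needed for `E₇(q)` -/
def TE7 (l : ℕ) : Prop := ∀ (r e : ℕ) [Fact r.Prime] (F : Type) [Field F] [Fintype F], Fintype.card F = r ^ e → 0 < e →
  l ≠ r → TI hpE7 (AdmL r [1]) (Nat.gcd 2 (r ^ e - 1)) ↥(chevE7.group F) ((r : ℤ) ^ e • 1) r l

/-- what is needed for `²E₆(q)` -/
def TT6 (l : ℕ) : Prop := ∀ (r e : ℕ) [Fact r.Prime] (F : Type) [Field F] [Fintype F], Fintype.card F = (r ^ e) ^ 2 →
  0 < e → l ≠ r → r ^ e ≠ 2 → TI hpE6 (AdmF r) (Nat.gcd 3 (r ^ e + 1)) ↥(twistedE6 F (r ^ e)) ((r : ℤ) ^ e • P6) r l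

theorem small_2E6 {F : Type} [Field F] [Fintype F] (hF : Fintype.card F = 2 ^ 2) {l : ℕ} (hl : l.Prime) (h2 : l ≠ 2)
    (h3 : l ≠ 3) : ¬ l ^ 3 ∣ Nat.card ↥(twistedE6 F 2) := fun h => by
  have h1 := S1066.result Nat.prime_two.isPrimePow hF
  have h4 : Nat.card ↥(twistedE6 F 2) = 2 ^ 36 * 3 ^ 9 * [5, 5, 7, 7, 11, 13, 17, 19].prod := by
    norm_num at h1 ⊢
    omega
  have h5 : (l ^ 3).Coprime (2 ^ 36 * 3 ^ 9) := Nat.Coprime.pow_left _ (Nat.Coprime.mul_right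
    (((Nat.coprime_primes hl Nat.prime_two).2 h2).pow_right _) (((Nat.coprime_primes hl Nat.prime_three).2 h3).pow_right _))
  have h6 := h5.dvd_of_dvd_mul_left (h4 ▸ h)
  obtain ⟨x, hx, h7⟩ := (Prime.dvd_prod_iff hl.prime).1 ((dvd_pow_self l three_ne_zero).trans h6)
  have h8 : ∀ x ∈ [5, 5, 7, 7, 11, 13, 17, 19], 0 < x ∧ x ≤ 19 := by decide
  have h9 : ∀ x ≤ 19, 2 ≤ x → ¬ x ^ 3 ∣ [5, 5, 7, 7, 11, 13, 17, 19].prod := by decide
  exact h9 l ((Nat.le_of_dvd (h8 x hx).1 h7).trans (h8 x hx).2) hl.two_le h6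

theorem not_dvd_sub {r e : ℕ} (hr : r.Prime) (he : 0 < e) (a : ℕ) :
    ¬ r ∣ Nat.card (Multiplicative (ZMod (Nat.gcd a (r ^ e - 1)))) := by
  rw [BD.card_cyc]
  exact hr.coprime_iff_not_dvd.1 (cop_sub hr.pos he a).symm

theorem not_dvd_add {r e : ℕ} (hr : r.Prime) (he : 0 < e) (a : ℕ) :
    ¬ r ∣ Nat.card (Multiplicative (ZMod (Nat.gcd a (r ^ e + 1)))) := by
  rw [BD.card_cyc]
  exact hr.coprime_iff_not_dvd.1 (cop_add he a).symm

variable (hD : BoxDat2) {l : ℕ} [hl : Fact l.Prime] {S : Type} [Group S]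
include hD

theorem row_e6' (h3 : l ≠ 3) (hT : TE6 l ∨ LX hpE6 l) (h : CE6 l S) : Row l S := by
  obtain ⟨F, _, _, h1, ⟨i⟩⟩ := h
  obtain ⟨r, e, _, _, hr, he, hF⟩ := Nt.exists_char F h1
  have h4 := (Nat.coprime_primes hl.out Nat.prime_three).2 h3
  exact Row.of_equiv i (hT.elim
    (fun h => (hasSc_E6 hD hF).row hr h4 (S2105.result hF) (not_dvd_sub Fact.out he 3) (h r e F hF he hr))
    ((hasSc_E6 hD hF).row_lev hr h4 (S2105.result hF) (not_dvd_sub Fact.out he 3)))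

theorem row_e7' (h2 : l ≠ 2) (hT : TE7 l ∨ LX hpE7 l) (h : CE7 l S) : Row l S := by
  obtain ⟨F, _, _, h1, ⟨i⟩⟩ := h
  obtain ⟨r, e, _, _, hr, he, hF⟩ := Nt.exists_char F h1
  have h4 := (Nat.coprime_primes hl.out Nat.prime_two).2 h2
  exact Row.of_equiv i (hT.elim
    (fun h => (hasSc_E7 hD hF).row hr h4 (S2106.result hF) (not_dvd_sub Fact.out he 2) (h r e F hF he hr))
    ((hasSc_E7 hD hF).row_lev hr h4 (S2106.result hF) (not_dvd_sub Fact.out he 2)))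

theorem row_te6' (h3 : l ≠ 3) (hT : TT6 l ∨ LX hpE6 l) (h : CTe6 l S) : Row l S := by
  obtain ⟨F, _, _, q, h1, hq, hF, ⟨i⟩⟩ := h
  obtain ⟨r, e, _, _, hr, he, rfl⟩ := Nt.exists_char' F h1 hq two_ne_zero hF
  have h4 := (Nat.coprime_primes hl.out Nat.prime_three).2 h3
  refine Row.of_equiv i ?_
  by_cases h2 : r ^ e = 2
  · obtain rfl : r = 2 := (Nat.prime_dvd_prime_iff_eq Fact.out Nat.prime_two).mp (h2 ▸ dvd_pow_self r he.ne')
    rw [h2] at hF ⊢
    exact boxSmall l _ (.inl (small_2E6 hF hl.out hr h3))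
  exact hT.elim
    (fun h => (hasSc_2E6 hD hF).row hr h4 (S2108.result hq hF h2) (not_dvd_add Fact.out he 3) (h r e F hF he hr h2))
    ((hasSc_2E6 hD hF).row_lev hr h4 (S2108.result hq hF h2) (not_dvd_add Fact.out he 3))

end Cfsg.Agent.KM.Sc
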