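import Cfsg.Agent.KM.Sc.Dat2
import Cfsg.Agent.KM.Sc.O82
import Cfsg.Agent.KM.Tr

/-!
# KM (S4999): the symplectic and orthogonal rows, odd primes (helper31)
-/

set_option autoImplicit false

namespace Cfsg.Agent.KM.BD

open Cfsg

theorem od_psp : RowFor (Od CPsp) := ScC.row core boxMult boxSmall s62

theorem od_odd : RowFor (Od COdd) := Dat.od_odd

theorem od_plus : RowFor (Od CPlus) := Dat.od_plus o82

theorem od_minus : RowFor (Od CMinus) := Dat.od_minus

end Cfsg.Agent.KM.BD
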