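import Cfsg.Agent.KM.Sc.E3
import Cfsg.Agent.KM.Ex.OneX

/-!
# KM (S4999): the rows `E₆`, `²E₆`, `E₇` at the good primes (helper5)
-/

set_option autoImplicit false

namespace Cfsg.Agent.KM.Sc

open Cfsg Cfsg.Lie Cfsg.Agent.KZ.DatX

variable {l : ℕ} [hl : Fact l.Prime] {S : Type} [Group S]

theorem lx6 (h : 5 ≤ l) : LX hpE6 l := fun _ _ _ _ _ _ _ X => Ex.lev_E6 X hl.out h

theorem lx7 (h : 5 ≤ l) : LX hpE7 l := fun _ _ _ _ _ _ _ X => Ex.lev_E7 X hl.out h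

theorem e6_ge (h5 : 5 ≤ l) (h : CE6 l S) : Row l S := row_e6 (by omega) (.inr (lx6 h5)) h

theorem e7_ge (h5 : 5 ≤ l) (h : CE7 l S) : Row l S := row_e7 (by omega) (.inr (lx7 h5)) h

theorem te6_ge (h5 : 5 ≤ l) (h : CTe6 l S) : Row l S := row_te6 (by omega) (.inr (lx6 h5)) h

theorem od_e6 (h3 : ∀ (S : Type) [Group S] [Finite S], CE6 3 S → Row 3 S) : RowFor (Od CE6) :=
  fun l _ S _ _ _ _ ⟨h2, h⟩ => by
    rcases Ex.odd_cases h2 with rfl | h5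
    exacts [h3 S h, e6_ge h5 h]

theorem od_te6 (h3 : ∀ (S : Type) [Group S] [Finite S], CTe6 3 S → Row 3 S) : RowFor (Od CTe6) :=
  fun l _ S _ _ _ _ ⟨h2, h⟩ => by
    rcases Ex.odd_cases h2 with rfl | h5
    exacts [h3 S h, te6_ge h5 h]

theorem od_e7' (h3 : ∀ (S : Type) [Group S] [Finite S], CE7 3 S → Row 3 S) : RowFor (Od CE7) :=
  fun l _ S _ _ _ _ ⟨h2, h⟩ => by
    rcases Ex.odd_cases h2 with rfl | h5
    exacts [h3 S h, e7_ge h5 h]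

theorem od_e7 (h3 : TE7 3) : RowFor (Od CE7) :=
  have : Fact (Nat.Prime 3) := ⟨Nat.prime_three⟩
  od_e7' fun _ _ _ h => row_e7 (by decide) (.inl h3) h

theorem ev_e6 (h2 : TE6 2) : RowFor (Ev CE6) := fun l _ S _ _ _ _ ⟨e, h⟩ => by
  subst e
  exact row_e6 (by decide) (.inl h2) h

theorem ev_te6 (h2 : TT6 2) : RowFor (Ev CTe6) := fun l _ S _ _ _ _ ⟨e, h⟩ => by
  subst e
  exact row_te6 (by decide) (.inl h2) h

end Cfsg.Agent.KM.Sc
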