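import Cfsg.Agent.KM.Box
import Cfsg.Agent.TwoF.DC.Fin.Main

/-!
# KM (S4999): an `RDat` with an algebraic faithful representation is a simply connected `Datum` (helper27)

* `Alg P ρ` : the hypotheses; `Alg.aut` : the Steinberg map; `Alg.dat` : the datum;
* `qs`, `nt`, `pi1`, `rt_iff`, `wt_rv`, `GF_eq : GF aut ⊤ = P.TT`, `sc`.
-/

set_option autoImplicit false
set_option linter.unusedSectionVars false
set_option maxHeartbeats 200000

namespace Cfsg.Agent.KM.Dat

open Cfsg Cfsg.Agent.DL Cfsg.Agent.LangThm Cfsg.Agent.TwoF.DC Matrix CoxeterSystem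
  Cfsg.Agent.ChevalleyStructure.CoxeterGeom Cfsg.Agent.Tits.Roots Cfsg.Agent.Nodes.Reps Cfsg.Agent.Nodes.BNOf
  Cfsg.Agent.Nodes.Bruhat Cfsg.Agent.BpExc.LangFr

section gen

variable {p : ℕ} [Fact p.Prime] {k : Type} [Field k] [CharP k p] {Y : Type} [Group Y] {N : Type} [Fintype N]
  [DecidableEq N] {ρ : Y →* GL N k} {F : MulAut Y} {G : Subgroup Y} [IsAlgClosed k] (X : Datum p ρ F G)

theorem short (l : List X.I) (ho : l.Pairwise fun a b => pairing X.A a (sr b) = 0) :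
    ∀ (w : X.W) (m : Y), X.Rp w m → (∀ i ∈ l, X.act w (sr i) ≤ 0) →
      ∃ w', X.Rp w' (m * (l.map X.n).prod) ∧ X.cs.length w' + l.length ≤ X.cs.length w := by
  induction l with
  | nil => exact fun w m hm _ => ⟨w, by simpa using hm, le_rfl⟩
  | cons i l ih =>
    intro w m hm hw
    obtain ⟨h1, h2⟩ := List.pairwise_cons.1 ho
    have h3 := (lt_iff X.cs X.h w i).2 (hw i List.mem_cons_self)
    obtain ⟨w', h4, h5⟩ := ih h2 _ _ (hm.mul (rp_simple X.cs X.nsys i)) fun i' hi' => by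
      rw [Datum.act, rep_mul_apply, rep_simple_eq, h1 i' hi', zero_smul, sub_zero]
      exact hw i' (List.mem_cons_of_mem _ hi')
    exact ⟨w', by rwa [List.map_cons, List.prod_cons, ← mul_assoc], by rw [List.length_cons]; omega⟩

variable {X}

theorem g_neg (hq : X.QS) {w : X.W} {a : X.I → ℤ} (ha : X.Rt a) (h0 : X.act w a ≤ 0) : X.act (X.Fw w) (X.g a) ≤ 0 := by
  have h2 : X.Rt (X.act w a) := ha.act w
  rw [← X.g_act w ha, ← (X.g_root _ h2).not_nonneg_iff, hq.nonneg_iff h2]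
  exact fun h3 => h2.not_pos_neg h3 h0

/-- **generators of the finite group**, orthogonal orbits -/
theorem GF_le (hq : X.QS) {K : Subgroup Y} (hU : ∀ u ∈ X.U, F u = u → u ∈ K) (hT : ∀ t ∈ X.T, F t = t → t ∈ K)
    (hn : ∀ i, ∃ l : List X.I, l ≠ [] ∧ (l.Pairwise fun a b => pairing X.A a (sr b) = 0) ∧
      (∀ j ∈ l, ∃ m : ℕ, X.g^[m] (sr i) = sr j) ∧ (l.map X.n).prod ∈ K ∧ F (l.map X.n).prod = (l.map X.n).prod) :
    GF F G ≤ K := by
  have key : ∀ (n : ℕ) (w : X.W) (m : Y), X.cs.length w = n → X.Rp w m → F m = m → m ∈ K := by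
    intro n
    induction n using Nat.strong_induction_on with
    | _ n ih =>
      intro w m hw hm hF
      by_cases h1 : ∀ j, 0 ≤ X.act w (sr j)
      · obtain rfl : w = 1 := eq_one_of_nonneg X.cs X.h w h1
        exact hT m hm.mem_of_one hF
      push Not at h1
      obtain ⟨i, hi⟩ := h1
      obtain ⟨l, l1, l2, l3, l4, l5⟩ := hn i
      have h2 : X.Fw w = w := X.rp_unique (by have := hm.mapF; rwa [hF] at this) hm
      have h3 : ∀ a : ℕ, X.act w (X.g^[a] (sr i)) ≤ 0 := fun a => by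
        induction a with
        | zero => exact ((isRoot_sr _ _ _).act w).not_nonneg_iff.1 hi
        | succ a ih =>
          have h4 := g_neg hq (X.iterate_g_root a (isRoot_sr _ _ i)) ih
          rwa [h2, ← Function.iterate_succ_apply' X.g] at h4
      obtain ⟨w', h4, h5⟩ := short X l l2 w m hm fun j hj => by
        obtain ⟨a, ha⟩ := l3 j hj
        exact ha ▸ h3 a
      have h6 := List.length_pos_iff.2 l1
      simpa using mul_mem (ih _ (by omega) w' _ rfl h4 (by rw [map_mul, hF, l5])) (inv_mem l4)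
  intro g hg
  obtain ⟨w, u, hu, m, hm, v, hv, rfl⟩ := X.exists_normal_form hg.1
  have h1 : F u * F m * F v = u * m * v := by rw [← map_mul, ← map_mul]; exact hg.2
  obtain ⟨-, h2, h3, h4⟩ := X.normal_form_unique ((hq.F_mem_U u).2 hu) hu hm.mapF hm
    (X.F_mem_S (fun _ ha => ha.1) (fun a ha => by
      exact ⟨X.g_root a ha.1, hq a ha.1 ha.2.1, g_neg hq ha.1 ha.2.2⟩) hv) hv h1
  exact mul_mem (mul_mem (hU u hu h2) (key _ w m rfl hm h3)) (hU v (X.NW_le_U w hv) h4)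

end gen

variable {p : ℕ} [Fact p.Prime] {ι Φ k G : Type} [Fintype ι] [DecidableEq ι] [Fintype Φ] [DecidableEq Φ] [Field k]
  [IsAlgClosed k] [CharP k p] [Group G] {D : RDat p ι Φ k G} (P : Tws D) {N : Type} [Fintype N] [DecidableEq N]
  (ρ : G →* GL N k)

/-- an algebraic faithful representation -/
structure Alg : Prop where
  fa : D.Fa
  lf : ∀ a : k, ∃ m, 0 < m ∧ a ^ p ^ m = a
  inj : Function.Injective ρ
  fr : ∀ g, ρ (P.Fr g) = frob p 1 (ρ g)
  poly : ∀ x i j, ∃ f : Polynomial k, ∀ u, (ρ (D.ζ x u) : Matrix N N k) i j = f.eval u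
  diag : ∃ (g₀ : GL N k) (μ : N → ι → ℤ), ∀ c,
    ((g₀⁻¹ * ρ (D.κ c) * g₀ : GL N k) : Matrix N N k) = diagonal fun i => ((chr (μ i) c : kˣ) : k)

theorem eq_of_cyc {i i' : ι} (h : (P.gι 1).SameCycle i i') : i = i' := by
  rw [map_one] at h
  exact h.eq_of_left rfl

/-- the untwisted groups -/
def lv (e : ℕ) (he : 0 < e) : Tws D :=
  { P with f := e, f_pos := he, σ := 1, orth := fun _ _ h hne => absurd (eq_of_cyc P h) hne }

/-- the node of an index -/
abbrev ob (i : ι) : Orb (P.gι 1) := orb (P.gι 1) i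

theorem rp_ob (i : ι) : rp (ob P i) = i := eq_of_cyc P (orb_eq_iff.1 (orb_rp _))

theorem oset_eq (j : Orb (P.gι 1)) : oset j = {rp j} := by
  ext i
  rw [mem_oset, Finset.mem_singleton]
  exact ⟨fun h => by rw [← h, rp_ob], fun h => by rw [h, orb_rp]⟩

/-- the roots in the coordinates of the datum -/
noncomputable abbrev rv (x : Bool × Φ) : Orb (P.gι 1) → ℤ := D.R.rv (P.gι 1) x

theorem rv_apply (x : Bool × Φ) (j : Orb (P.gι 1)) : rv P x j = D.R.vec x (rp j) := by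
  rw [rv, RC.rv, res_apply, oset_eq, Finset.sum_singleton]

theorem rv_ob (x : Bool × Φ) : rv P x ∘ ob P = D.R.vec x := funext fun i => by
  rw [Function.comp_apply, rv_apply, rp_ob]

theorem rv_inj : Function.Injective (rv P) := fun x y h => D.R.vec_inj (by rw [← rv_ob P, ← rv_ob P, h])

theorem osym : D.R.OSym (P.gι 1) (P.gΦ 1) := (lv P 1 one_pos).osym

open Classical in
/-- the root elements -/
noncomputable def xx (a : Orb (P.gι 1) → ℤ) (u : k) : G := if h : ∃ y, rv P y = a then D.ζ h.choose u else 1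

theorem xx_rv (y : Bool × Φ) : xx P (rv P y) = D.ζ y := funext fun u => by
  have h : ∃ y', rv P y' = rv P y := ⟨y, rfl⟩
  rw [xx, dif_pos h, rv_inj P h.choose_spec]

theorem mem_US (y : Bool × Φ) (g : G) : g ∈ D.US {y' | rv P y' = rv P y} ↔ ∃ u, D.ζ y u = g := by
  refine ⟨fun h => ?_, by rintro ⟨u, rfl⟩; exact Subgroup.subset_closure ⟨y, rfl, u, rfl⟩⟩
  induction h using Subgroup.closure_induction with
  | mem g hg => obtain ⟨y', hy, t, rfl⟩ := hg; exact ⟨t, by rw [rv_inj P hy]⟩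
  | one => exact ⟨0, D.ζ_zero y⟩
  | mul a b _ _ h1 h2 => obtain ⟨s, rfl⟩ := h1; obtain ⟨t, rfl⟩ := h2; exact ⟨_, D.ζ_add y s t⟩
  | inv a _ h1 => obtain ⟨s, rfl⟩ := h1; exact ⟨_, D.ζ_neg y s⟩

theorem ζ_inj (hF : D.Fa) (y : Bool × Φ) : Function.Injective (D.ζ y) := by
  have h1 : ∀ b, Function.Injective (D.z b) := fun b s t h => by
    have h2 := (RDat.lead_z (D := D) (b := b) rfl s).unique hF (h ▸ RDat.lead_z (D := D) (b := b) rfl t)
    simpa using congrFun h2 b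
  rcases y with ⟨_ | _, b⟩
  · exact fun s t h => h1 b (by rw [← D.τ_τ (D.z b s), ← D.τ_τ (D.z b t)]; exact congrArg D.τ h)
  · exact h1 b

/-- the roots as characters -/
def wt : (Orb (P.gι 1) → ℤ) →+ (ι → ℤ) := AddMonoidHom.mk' (fun a => D.R.toWt (a ∘ ob P)) fun _ _ => D.R.toWt_add _ _

theorem wt_rv (x : Bool × Φ) : wt P (rv P x) = D.R.wt x := congrArg D.R.toWt (rv_ob P x)

theorem wt_pair (j : Orb (P.gι 1)) (a : Orb (P.gι 1) → ℤ) : wt P a (rp j) = pairing (D.R.rA (P.gι 1)) j a := by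
  have h1 : res (P.gι 1) (a ∘ ob P) = a := funext fun j => by
    rw [res_apply, oset_eq, Finset.sum_singleton, Function.comp_apply, ob, orb_rp]
  have h2 := (osym P).toSym.pairing_res j (a ∘ ob P)
  rw [h1, oset_eq, Finset.sum_singleton] at h2
  exact h2.symm

theorem sr_ob (i : ι) : sr (ob P i) = rv P (true, D.R.zi i) := (RC.rv_zi i).symm

theorem no_eq (i : ι) : (lv P 1 one_pos).no (ob P i) = D.nw i :=
  (lv P 1 one_pos).po_one' (i := i) (by show P.gι 1 i = i; rw [map_one]; rfl) D.nw_mem_Lo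

theorem chr_single (i : ι) (n : ℤ) (c : ι → kˣ) : chr (Pi.single i n) c = c i ^ n := by
  rw [chr_apply, Finset.prod_eq_single i (fun j _ hj => by rw [Pi.single_eq_of_ne hj, zpow_zero])
    (fun h => (h (Finset.mem_univ i)).elim), Pi.single_eq_same]

theorem coch_single (i : ι) (a : kˣ) : coch (Pi.single i 1) a = Pi.mulSingle i a := funext fun j => by
  rw [coch_apply, Pi.single_apply, Pi.mulSingle_apply]
  split_ifs <;> simp

theorem nw_κ (i : ι) (c : ι → kˣ) :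
    D.nw i * D.κ c * (D.nw i)⁻¹ = D.κ (c * (Pi.mulSingle i (wch k (D.R.wt (true, D.R.zi i)) c))⁻¹) := by
  have h1 : (D.nw i)⁻¹ * D.κ c * D.nw i = D.κ (c * (Pi.mulSingle i (wch k (D.R.wt (true, D.R.zi i)) c))⁻¹) := by
    induction c using Pi.mulSingle_induction with
    | one => simp
    | mul a b ha hb =>
      rw [map_mul (wch k _), Pi.mulSingle_mul, mul_inv, mul_mul_mul_comm, map_mul D.κ (a * _), ← ha, ← hb, map_mul]
      group
    | mulSingle j c =>
      have h2 : D.R.wt (true, D.R.zi i) j = D.R.C j i := by simp [RC.wt, RC.toWt, RC.vec_zi, Pi.single_apply]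
      rw [wch_single, h2, mul_comm (Pi.mulSingle j c : ι → kˣ), map_mul, ← Pi.mulSingle_inv, D.κ_single, D.κ_single, mul_assoc,
        D.hh_nw, mul_assoc, inv_mul_cancel_left, _root_.zpow_neg]
  have h2 := D.TorK_comm (D.hh_mem_TorK i (-1)) ⟨c, rfl⟩
  rw [← D.nw_sq] at h2
  rw [← h1]
  calc _ = (D.nw i)⁻¹ * (D.nw i * D.nw i * D.κ c) * (D.nw i)⁻¹ := by group
    _ = _ := by rw [h2]; group

theorem GF_GF (γ γ' : P.Gr) (a a' : ℕ) (g : G) : P.GF γ a (P.GF γ' a' g) = P.GF (γ * γ') (a + a') g := by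
  refine DFunLike.congr_fun (D.hom_ext (α := (P.GF γ a).comp (P.GF γ' a')) (β := P.GF (γ * γ') (a + a'))
    (fun i t => ?_) fun i t => ?_) g
  · simp only [MonoidHom.comp_apply, Tws.GF_x, map_mul, Equiv.Perm.mul_apply, ← pow_mul, pow_add, mul_comm]
  · simp only [MonoidHom.comp_apply, Tws.GF_y, map_mul, Equiv.Perm.mul_apply, ← pow_mul, pow_add, mul_comm]

/-- the permutation of the roots -/
noncomputable def gg (a : Orb (P.gι 1) → ℤ) : Orb (P.gι 1) → ℤ := fun j => a (ob P (P.sι.symm (rp j)))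

theorem gg_rv (e : Bool) (b : Φ) : gg P (rv P (e, b)) = rv P (e, P.sΦ b) := funext fun j => by
  rw [gg, rv_apply, rv_apply, rp_ob]
  obtain ⟨i, hi⟩ := P.sι.surjective (rp j)
  simp only [← hi, Equiv.symm_apply_apply, RC.vec, P.cf_gr]

variable {P ρ}

namespace Alg

variable (h : Alg P ρ)
include h

theorem GF_one (a : ℕ) (g : G) : ρ (P.GF 1 a g) = frob p a (ρ g) := by
  rw [Tws.GF_apply, map_one, MulAut.one_apply]
  induction a with
  | zero => exact (frob_zero p _).symm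
  | succ a ih => rw [Function.iterate_succ_apply', h.fr, ih, frob_frob, add_comm]

theorem bij : Function.Bijective P.Θ := by
  refine ⟨fun a b e => ?_, ?_⟩
  · have h1 : P.GF 1 P.f a = P.GF 1 P.f b := by
      have h2 := congrArg (P.GF P.σ⁻¹ 0) e
      rwa [Tws.Θ_eq, GF_GF, GF_GF, inv_mul_cancel, zero_add] at h2
    have h2 := congrArg ρ h1
    rw [h.GF_one, h.GF_one] at h2
    exact h.inj (Units.ext (Matrix.map_injective (iterateFrobenius k p P.f).injective (congrArg Units.val h2)))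
  · rw [← MonoidHom.range_eq_top, eq_top_iff, ← D.gen, Subgroup.closure_le]
    rintro _ ⟨i, s, hs⟩
    obtain ⟨t, rfl⟩ := IsAlgClosed.exists_pow_nat_eq s (pow_pos (Fact.out : p.Prime).pos P.f)
    obtain ⟨i, rfl⟩ := P.sι.surjective i
    rcases hs with rfl | rfl
    · exact ⟨_, P.GF_x _ _ i t⟩
    · exact ⟨_, P.GF_y _ _ i t⟩

/-- the Steinberg map -/
noncomputable def aut : MulAut G := MulEquiv.ofBijective P.Θ h.bij

theorem aut_apply (g : G) : h.aut g = P.Θ g := rfl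

theorem aut_pow (d : ℕ) (g : G) : (h.aut ^ d) g = P.GF (P.σ ^ d) (P.f * d) g := by
  induction d with
  | zero => rw [pow_zero, pow_zero, mul_zero, Tws.GF_apply, map_one]; rfl
  | succ d ih => rw [pow_succ', MulAut.mul_apply, ih, aut_apply, Tws.Θ_eq, GF_GF, ← pow_succ', Nat.mul_succ, add_comm P.f]

theorem nt : Deg.NT p ρ h.aut :=
  ⟨P.f, orderOf P.σ, P.f_pos, orderOf_pos _, fun y => by rw [aut_pow, pow_orderOf_eq_one, h.GF_one]⟩

theorem amb : Amb p ρ h.aut := by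
  obtain ⟨n, d, h1, h2, h3⟩ := h.nt
  exact ⟨h.lf, h.inj, d, n * d, h2, Nat.mul_pos h1 h2, h3⟩

theorem Fx_eq {e : ℕ} (he : 0 < e) : (lv P e he).Fx = lev p ρ e := by
  ext g
  rw [mem_lev, ← h.GF_one, h.inj.eq_iff]
  rfl

/-- **the datum** -/
noncomputable def dat : Datum p ρ h.aut ⊤ where
  amb := h.amb
  I := Orb (P.gι 1)
  W := D.R.rW (P.gι 1)
  fW := (osym P).finite_W
  M := D.R.rM (P.gι 1)
  cs := D.R.rcs (P.gι 1)
  A := D.R.rA (P.gι 1)
  h := (osym P).isCartan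
  R := ι
  τ := D.κ
  τ_inj := D.κ_inj
  T := D.TorK
  mem_T _ := Iff.rfl
  X a := D.US {y | rv P y = a}
  x := xx P
  mem_X a ha := by
    obtain ⟨y, rfl⟩ := (osym P).isRoot_iff.1 ha
    rw [xx_rv]
    exact mem_US P y
  x_inj a ha := by
    obtain ⟨y, rfl⟩ := (osym P).isRoot_iff.1 ha
    rw [xx_rv]
    exact ζ_inj h.fa y
  x_add a ha := by
    obtain ⟨y, rfl⟩ := (osym P).isRoot_iff.1 ha
    rw [xx_rv]
    exact D.ζ_add y
  n := (lv P 1 one_pos).no
  wt := wt P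
  cw j := Pi.single (rp j) 1
  pair j a := by simp [Pi.single_apply, wt_pair]
  tor a ha c u := by
    obtain ⟨y, rfl⟩ := (osym P).isRoot_iff.1 ha
    rw [xx_rv, wt_rv, D.κ_ζ, mul_inv_cancel_right]
    rfl
  refl j c := by
    obtain ⟨i, rfl⟩ : ∃ i, ob P i = j := ⟨_, orb_rp j⟩
    rw [no_eq, rp_ob, coch_single, sr_ob, wt_rv, nw_κ]
    rfl
  rgd := ⟨1, one_pos, fun m hm => by
    rw [one_mul, ← h.Fx_eq hm]
    exact (lv P m hm).rgd h.fa⟩
  G_eq := by
    rw [eq_top_iff, ← D.gen, Subgroup.closure_le]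
    rintro _ ⟨i, s, rfl | rfl⟩
    · rw [← D.ζ_x]
      exact X_le_GG (X := fun a => D.US {y | rv P y = a}) ((osym P).isRoot_rv _) ((mem_US P _ _).2 ⟨s, rfl⟩)
    · rw [← D.ζ_y]
      exact X_le_GG (X := fun a => D.US {y | rv P y = a}) ((osym P).isRoot_rv _) ((mem_US P _ _).2 ⟨s, rfl⟩)
  polyx a ha := by
    obtain ⟨y, rfl⟩ := (osym P).isRoot_iff.1 ha
    rw [xx_rv]
    exact h.poly y
  diag := h.diag
  g := gg P
  ex _ := P.f
  g_root a ha := by
    obtain ⟨⟨e, b⟩, rfl⟩ := (osym P).isRoot_iff.1 ha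
    rw [gg_rv]
    exact (osym P).isRoot_rv _
  F_x a ha := by
    obtain ⟨⟨e, b⟩, rfl⟩ := (osym P).isRoot_iff.1 ha
    rw [gg_rv, xx_rv, xx_rv]
    exact ⟨_, (P.ε P.σ b).ne_zero, P.GF_ζ _ _ e b⟩
  Mx := Matrix.of fun i => Pi.single (P.sι.symm i) ((p ^ P.f : ℕ) : ℤ)
  F_τ c := (P.GF_κ _ _ c).trans (congrArg D.κ (funext fun i => by
    rw [mon_apply, ← zpow_natCast]
    exact (chr_single _ _ c).symm))

theorem rt_iff {a : h.dat.I → ℤ} : h.dat.Rt a ↔ ∃ x, rv P x = a := (osym P).isRoot_iff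

theorem dat_wt (x : Bool × Φ) : h.dat.wt (rv P x) = D.R.wt x := wt_rv P x

theorem qs : h.dat.QS := fun _ _ h0 _ => h0 _

theorem pi1 : TO.X.Cn.Pi1 h.dat 1 := by
  refine TO.X.Cn.pi1_of_mat h.dat (fun (i : ι) (j : Orb (P.gι 1)) => if j = ob P i then 1 else 0) fun (i m : ι) => ?_
  show ∑ j : Orb (P.gι 1), (if j = ob P i then 1 else 0) * (Pi.single (rp j) 1 : ι → ℤ) m = _
  simp only [ite_mul, one_mul, zero_mul, Finset.sum_ite_eq', Finset.mem_univ, if_true, rp_ob, Pi.single_apply, eq_comm,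
    Nat.cast_one]
  congr

theorem U_le : h.dat.U ≤ D.U := RGD.Sup_le fun a ha => D.US_le <| by
  rintro ⟨e, b⟩ (hy : rv P _ = a) t
  obtain rfl : e = true := RC.pos_of_rv (x := (e, b)) (hy ▸ ha.2)
  exact D.z_mem_U b t

/-- **the fixed points** -/
theorem GF_eq : GF h.aut ⊤ = P.TT := by
  refine le_antisymm (GF_le h.qs (fun u hu h2 => P.mem_TT_U (h.U_le hu) h2) (fun t ht h2 => P.H_le_TT ⟨ht, h2⟩) ?_)
    fun g hg => ⟨trivial, P.TT_le_Fx hg⟩
  intro (j : Orb (P.gι 1))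
  obtain ⟨i, rfl⟩ : ∃ i, ob P i = j := ⟨_, orb_rp j⟩
  have h1 : (((oset (orb P.sι i)).toList.map (ob P)).map (lv P 1 one_pos).no).prod = P.no (orb P.sι i) := by
    exact congrArg List.prod (List.map_map.trans (List.map_congr_left fun a _ => no_eq P a))
  refine ⟨(oset (orb P.sι i)).toList.map (ob P), List.ne_nil_of_mem (List.mem_map_of_mem (Finset.mem_toList.2 (rp_mem _))), List.pairwise_map.2
    ((Finset.nodup_toList _).pairwise_of_forall_ne fun a ha b hb hne => ?_), fun j hj => ?_,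
    h1.symm ▸ P.no_mem_TT _, (congrArg P.Θ h1).trans ((P.no_fix _).trans h1.symm)⟩
  · show pairing (D.R.rA (P.gι 1)) (ob P a) (sr (ob P b)) = 0
    rw [← wt_pair, sr_ob, wt_rv, rp_ob, ← P.osym.C_orb ((P.orb_of_mem ha).trans (P.orb_of_mem hb).symm) hne]
    simp [RC.wt, RC.toWt, RC.vec_zi, Pi.single_apply]
  · obtain ⟨a, ha, rfl⟩ := List.mem_map.1 hj
    obtain ⟨b, rfl⟩ := exists_pow_of_orb (P.orb_of_mem ha).symm
    refine ⟨b, ?_⟩
    show (gg P)^[b] (sr (ob P i)) = sr (ob P ((P.sι ^ b) i))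
    clear ha hj
    induction b with
    | zero => rfl
    | succ b ih => rw [Function.iterate_succ_apply', ih, pow_succ', Equiv.Perm.mul_apply, sr_ob, sr_ob, gg_rv,
        P.osym.toSym.θ_zi]

/-- **the simply connected cover** -/
theorem sc {S : Type} [Group S] (hS : IsSimpleGroup S) (hn : ¬ IsMulCommutative S) {π : P.TT →* S}
    (hπ : Function.Surjective π) (hc : π.ker ≤ Subgroup.center P.TT) {A : Type} [CommGroup A]
    (hA : HasSchurMultiplier S A) {d a : ℕ} (hd : Nat.card A ∣ d * p ^ a) (hd0 : 0 < d) (hd' : d ≤ Nat.card P.Zc) :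
    ∃ s : Sc h.dat S, Nat.card s.π.ker = Nat.card P.Zc := by
  have h1 : ∀ H : Subgroup G, H = P.TT → ∃ π : H →* S, Function.Surjective π ∧ π.ker = Subgroup.center H ∧
      commutator H = ⊤ ∧ Nat.card π.ker = Nat.card P.Zc ∧ ∀ (K : Type) [Group K] [Finite K], IsQuasisimple K →
      ¬ p ∣ Nat.card (Subgroup.center K) → ∀ e : (K ⧸ Subgroup.center K) ≃* S, ∃ ψ : H →* K, Function.Surjective ψ ∧
        ∀ s, e (QuotientGroup.mk (ψ s)) = π s := by
    rintro _ rfl
    have h1 := ker_eq_center hS hn hπ hc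
    exact ⟨π, hπ, h1, P.perfect_of h.fa (perfect_of_simple hS hn) hπ hc, h1 ▸ P.card_center h.fa,
      P.cover_of h.fa hS hn hπ hc hA hd hd0 hd'⟩
  obtain ⟨π', h2, h3, h4, h5, h6⟩ := h1 _ h.GF_eq
  exact ⟨⟨h.qs, h.nt, h.pi1, π', h2, h3, h4, h6⟩, h5⟩

end Alg

end Cfsg.Agent.KM.Dat
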