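import Cfsg.Agent.KM.Box
import Cfsg.Agent.Blocks.Basic

/-!
# KM (S4999): central isogenies of data (helper5)

* `Isog X' X θ z` : `θ` maps `G'` onto `G`, commutes with the Steinberg maps and is given on the tori by a matrix `P`
  with `P Q = z = Q P`;
* `Isog.conj`, `Isog.Z0_le`, **`Isog.pull`** : a subgroup of exponent prime to `z` with a toral image is toral;
* `TorIm l X ι` : the images of the abelian defect groups of the covers of `S` are toral;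
* **`Isog.kmg`**, **`row_of_isog`**.
-/

set_option autoImplicit false
set_option linter.unusedSectionVars false

namespace Cfsg.Agent.KM.Sc

open Cfsg Cfsg.Agent.DL Cfsg.Agent.KM.Ht Cfsg.Agent.Nodes.Reps Matrix

section Mon

variable {R R' : Type} [Fintype R] [Fintype R'] {k : Type} [Field k]

theorem chr_chr (m : R → ℤ) (P : Matrix R R' ℤ) (c : R' → kˣ) :
    chr m (fun i => chr (P i) c) = chr (m ᵥ* P) c := by
  rw [chr_apply, Matrix.vecMul_eq_sum, chr_sum]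
  exact Finset.prod_congr rfl fun i _ => (chr_zsmul _ _ _).symm

theorem chr_coch' (P : Matrix R R' ℤ) (v : R' → ℤ) (a : kˣ) :
    (fun i => chr (P i) (coch v a)) = coch (P *ᵥ v) a := funext fun i => chr_coch _ _ _

end Mon

variable {p : ℕ} [Fact p.Prime] {k : Type} [Field k] [CharP k p] [IsAlgClosed k]
  {Y' : Type} [Group Y'] {N' : Type} [Fintype N'] [DecidableEq N'] {ρ' : Y' →* GL N' k} {F' : MulAut Y'}
  {G' : Subgroup Y'} {Y : Type} [Group Y] {N : Type} [Fintype N] [DecidableEq N] {ρ : Y →* GL N k} {F : MulAut Y}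
  {G : Subgroup Y}

/-- a central isogeny -/
structure Isog (X' : Datum p ρ' F' G') (X : Datum p ρ F G) (θ : Y' →* Y) (z : ℕ) where
  pos : 0 < z
  comm : ∀ y, θ (F' y) = F (θ y)
  mem : ∀ y ∈ G', θ y ∈ G
  surj : ∀ y ∈ G, ∃ y' ∈ G', θ y' = y
  ker : ∀ y ∈ G', θ y = 1 → y ∈ X'.T
  P : Matrix X.R X'.R ℤ
  Q : Matrix X'.R X.R ℤ
  PQ : P * Q = (z : ℤ) • (1 : Matrix X.R X.R ℤ)
  QP : Q * P = (z : ℤ) • (1 : Matrix X'.R X'.R ℤ)
  tau : ∀ c, θ (X'.τ c) = X.τ fun i => chr (P i) c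
  root : ∀ a', X'.Rt a' → ∃ a, X.Rt a ∧ X'.wt a' = X.wt a ᵥ* P
  root' : ∀ a, X.Rt a → ∃ a', X'.Rt a' ∧ X'.wt a' = X.wt a ᵥ* P

namespace Isog

variable {X' : Datum p ρ' F' G'} {X : Datum p ρ F G} {θ : Y' →* Y} {z : ℕ} (I : Isog X' X θ z)

theorem tau_coch (v : X'.R → ℤ) (a : kˣ) : θ (X'.τ (coch v a)) = X.τ (coch (I.P *ᵥ v) a) := by
  rw [I.tau, chr_coch']

theorem tau_Q (v : X.R → ℤ) (a : kˣ) : θ (X'.τ (coch (I.Q *ᵥ v) a)) = X.τ (coch v (a ^ (z : ℤ))) := by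
  rw [I.tau_coch, mulVec_mulVec, I.PQ, smul_mulVec, one_mulVec, coch_zsmul]

include I

theorem map_mem_T {t : Y'} (ht : t ∈ X'.T) : θ t ∈ X.T := by
  obtain ⟨c, rfl⟩ := (X'.mem_T t).1 ht
  rw [I.tau]
  exact X.τ_mem _

theorem exists_T {t : Y} (ht : t ∈ X.T) : ∃ s ∈ X'.T, θ s = t := by
  obtain ⟨c, rfl⟩ := (X.mem_T t).1 ht
  obtain ⟨b, rfl⟩ := exists_pow_eq (n := z) (by exact_mod_cast I.pos.ne') c
  refine ⟨X'.τ fun j => chr (I.Q j) b, X'.τ_mem _, ?_⟩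
  rw [I.tau]
  congr 1
  funext i
  rw [chr_chr, show I.P i ᵥ* I.Q = (I.P * I.Q) i from rfl, I.PQ]
  exact (congrFun (mon_zsmul (z : ℤ) 1 b) i).trans (by rw [mon_one])

theorem mem_T {y : Y'} (hy : y ∈ G') (h : θ y ∈ X.T) : y ∈ X'.T := by
  obtain ⟨s, hs, e⟩ := I.exists_T h
  have h1 := I.ker (s⁻¹ * y) (mul_mem (inv_mem (X'.T_le_G hs)) hy) (by rw [map_mul, map_inv, e, inv_mul_cancel])
  simpa using mul_mem hs h1

/-- the kernel has exponent `z` -/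
theorem pow_eq_one {y : Y'} (hy : y ∈ G') (h : θ y = 1) : y ^ z = 1 := by
  obtain ⟨c, rfl⟩ := (X'.mem_T y).1 (I.ker y hy h)
  rw [I.tau, ← map_one X.τ] at h
  have h1 := X.τ_inj h
  rw [← map_pow, ← map_one X'.τ]
  congr 1
  funext j
  have h2 := chr_chr (I.Q j) I.P c
  rw [h1, map_one, show I.Q j ᵥ* I.P = (I.Q * I.P) j from rfl, I.QP] at h2
  have h3 := congrFun (mon_zsmul (z : ℤ) 1 c) j
  rw [mon_one, mon_apply, ← h2, zpow_natCast] at h3
  exact h3.symm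

theorem chi {a' : X'.I → ℤ} {a : X.I → ℤ} (h : X'.wt a' = X.wt a ᵥ* I.P) {t : Y'} (ht : t ∈ X'.T) :
    X.χ a (θ t) = X'.χ a' t := by
  obtain ⟨c, rfl⟩ := (X'.mem_T t).1 ht
  rw [I.tau, X.χ_τ, X'.χ_τ, chr_chr, h]

theorem mem_NN {y : Y'} (hy : y ∈ G') (h : θ y ∈ X.NN) : y ∈ X'.NN :=
  X'.mem_NN_of_conj hy fun t ht => I.mem_T (mul_mem (mul_mem hy (X'.T_le_G ht)) (inv_mem hy)) (by
    rw [map_mul, map_mul, map_inv]
    exact X.conj_mem_T h (I.map_mem_T ht))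

theorem map_mem_NN {y : Y'} (h : y ∈ X'.NN) : θ y ∈ X.NN :=
  X.mem_NN_of_conj (I.mem y (X'.NN_le_G h)) fun t ht => by
    obtain ⟨s, hs, rfl⟩ := I.exists_T ht
    rw [← map_inv, ← map_mul, ← map_mul]
    exact I.map_mem_T (X'.conj_mem_T h hs)

theorem map_lang (y : Y') : θ (y⁻¹ * F' y) = (θ y)⁻¹ * F (θ y) := by rw [map_mul, map_inv, I.comm]

theorem lang_NN {y : Y'} (hy : y ∈ G') (h : (θ y)⁻¹ * F (θ y) ∈ X.NN) : y⁻¹ * F' y ∈ X'.NN :=
  I.mem_NN (mul_mem (inv_mem hy) (X'.F_mem_G hy)) (I.map_lang y ▸ h)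

theorem map_GF {y : Y'} (hy : y ∈ GF F' G') : θ y ∈ GF F G :=
  ⟨I.mem y hy.1, (I.comm y).symm.trans (congrArg θ hy.2)⟩

/-- the conjugate frames -/
noncomputable def conj {y : Y'} (hy : y ∈ G') (hF' : y⁻¹ * F' y ∈ X'.NN) (hy' : θ y ∈ G)
    (hF : (θ y)⁻¹ * F (θ y) ∈ X.NN) : Isog (X'.conj hy hF') (X.conj hy' hF) θ z where
  pos := I.pos
  comm := I.comm
  mem := I.mem
  surj := I.surj
  ker g hg h := by
    rw [Datum.conj_T, mem_cj]
    exact I.ker _ (mul_mem (mul_mem (inv_mem hy) hg) hy) (by rw [map_mul, map_mul, h, mul_one, map_inv, inv_mul_cancel])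
  P := I.P
  Q := I.Q
  PQ := I.PQ
  QP := I.QP
  tau c := by
    rw [Datum.conj_tau, Datum.conj_tau, map_mul, map_mul, map_inv, I.tau]
  root := I.root
  root' := I.root'

theorem Z0_le {A : Set Y'} (hA : A ⊆ X'.T) : Z0 X (θ '' A) ≤ (Z0 X' A).map θ := by
  refine (Subgroup.closure_le _).2 ?_
  rintro _ ⟨v, a, hv, rfl⟩
  obtain ⟨b, rfl⟩ := exists_zpow_eq (n := z) (by exact_mod_cast I.pos.ne') a
  refine ⟨_, mem_Z0 (fun a' ha' => ?_) b, I.tau_Q v b⟩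
  obtain ⟨a, ha, e⟩ := I.root a' ha'.1
  have h1 := hv a ⟨ha, by
    rintro _ ⟨t, ht, rfl⟩
    rw [I.chi e (hA ht)]
    exact ha'.2 t ht⟩
  rw [e, ← dotProduct_mulVec, mulVec_mulVec, I.PQ, smul_mulVec, one_mulVec, dotProduct_smul, h1, smul_zero]

theorem map_Z0_le {A : Set Y'} (hA : A ⊆ X'.T) : (Z0 X' A).map θ ≤ Z0 X (θ '' A) := by
  rw [Subgroup.map_le_iff_le_comap]
  refine (Subgroup.closure_le _).2 ?_
  rintro _ ⟨v, a, hv, rfl⟩
  show θ _ ∈ Z0 X _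
  rw [I.tau_coch]
  refine mem_Z0 (fun b hb => ?_) a
  obtain ⟨b', hb', e⟩ := I.root' b hb.1
  rw [dotProduct_mulVec, ← e]
  exact hv b' ⟨hb', fun t ht => (I.chi e (hA ht)).symm.trans (hb.2 _ ⟨t, ht, rfl⟩)⟩

theorem map_Z0 {A : Set Y'} (hA : A ⊆ X'.T) : (Z0 X' A).map θ = Z0 X (θ '' A) :=
  le_antisymm (I.map_Z0_le hA) (I.Z0_le hA)

theorem le_Z0 {D : Subgroup Y'} (hD : D ≤ G') {n : ℕ} (hn : n.Coprime z) (hp : ∀ d ∈ D, d ^ n = 1)
    (h : D.map θ ≤ Z0 X (D.map θ)) : D ≤ Z0 X' D := by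
  have hT : D ≤ X'.T := fun d hd => I.mem_T (hD hd) (Z0_le_T X _ (h ⟨d, hd, rfl⟩))
  intro d hd
  obtain ⟨s, hs, e⟩ := I.Z0_le (A := D) hT (h ⟨d, hd, rfl⟩)
  have hsT := Z0_le_T X' _ hs
  have h1 := I.pow_eq_one (mul_mem (hD hd) (inv_mem (X'.T_le_G hsT))) (by rw [map_mul, map_inv, e, mul_inv_cancel])
  have hc : Commute d s⁻¹ := X'.T_comm (hT hd) (inv_mem hsT)
  rw [hc.mul_pow, inv_pow, mul_inv_eq_one] at h1
  obtain ⟨m, hm⟩ := exists_pow_eq_self_of_coprime (x := d) (n := z)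
    (hn.symm.coprime_dvd_right (orderOf_dvd_of_pow_eq_one (hp d hd)))
  rw [← hm, h1]
  exact pow_mem (pow_mem hs z) m

/-- **a subgroup of exponent prime to `z` with a toral image is toral** -/
theorem pull {D : Subgroup Y'} (hD : D ≤ G') {n : ℕ} (hn : n.Coprime z) (hp : ∀ d ∈ D, d ^ n = 1)
    (h : Toral X (D.map θ)) : Toral X' D := by
  obtain ⟨y, hy, hN, h⟩ := h
  obtain ⟨y, hy', rfl⟩ := I.surj y hy
  exact ⟨y, hy', I.lang_NN hy' hN, (I.conj hy' (I.lang_NN hy' hN) hy hN).le_Z0 hD hn hp h⟩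

end Isog

/-- the hypotheses on a cover `σ : K →* S` (no faithfulness) -/
structure Cv (l : ℕ) (M : Ideal AlgInt) {K : Type} [Group K] (B : Set (IrrCharacter K)) (D : Subgroup K) {S : Type}
    [Group S] (σ : K →* S) : Prop where
  hM : IsPModular l M
  hB : IsPBlock M B
  hD : IsDefectGroup l M B D
  ab : IsMulCommutative D
  perf : commutator K = ⊤
  surj : Function.Surjective σ
  ker : σ.ker = Subgroup.center K
  zp : ¬ l ∣ Nat.card (Subgroup.center K)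

/-- for all covers of `S` with centre of order prime to `l`: the image of an abelian defect group is toral, or the
heights vanish -/
def TorIm (l : ℕ) (X : Datum p ρ F G) {S : Type} [Group S] (ι : S →* Y) : Prop :=
  ∀ (K : Type) [Group K] [Finite K] (σ : K →* S) (M : Ideal AlgInt) (B : Set (IrrCharacter K)) (D : Subgroup K),
    Cv l M B D σ → Toral X (D.map (ι.comp σ)) ∨ BK.HZ l B

variable {X' : Datum p ρ' F' G'} {X : Datum p ρ F G} {θ : Y' →* Y} {z : ℕ} {S : Type} [Group S] {ι : S →* Y} {l : ℕ}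

theorem Isog.not_dvd (I : Isog X' X θ z) (s : KM.Sc X' S) (hι : ∀ h, ι (s.π h) = θ h) (hl : l.Prime)
    (hz : l.Coprime z) : ¬ l ∣ Nat.card s.π.ker := fun h => by
  have := X'.amb.finite_GF G'
  have := Fact.mk hl
  obtain ⟨⟨g, hg⟩, ho⟩ := exists_prime_orderOf_dvd_card' l h
  have h1 := I.pow_eq_one g.2.1 (by rw [← hι, MonoidHom.mem_ker.1 hg, map_one])
  have h2 : l ∣ z := by
    rw [← ho, ← Subgroup.orderOf_coe, ← Subgroup.orderOf_coe]
    exact orderOf_dvd_of_pow_eq_one h1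
  exact hl.one_lt.ne' (Nat.Coprime.eq_one_of_dvd hz h2)

theorem Isog.kmg (C : Core) (I : Isog X' X θ z) (s : KM.Sc X' S) (hι : ∀ h, ι (s.π h) = θ h) (hl : l.Prime)
    (hp : l ≠ p) (hz : l.Coprime z) (hT : TorIm l X ι) {M : Ideal AlgInt} (hM : IsPModular l M) :
    BK.KMg l M ↥(GF F' G') := by
  have := X'.amb.finite_GF G'
  refine C.kmg s.qs (C.dwR X' s.nt) hl hp (fun M B D h0 h1 h2 h3 => ?_) hM
  refine (hT _ s.π M B D ⟨h0, h1, h2, h3, s.perf, s.surj, s.ker, s.ker ▸ I.not_dvd s hι hl hz⟩).imp_left fun h => ?_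
  have := Fact.mk hl
  obtain ⟨j, hj⟩ : ∃ j, Nat.card D = l ^ j := IsPGroup.iff_card.1 (Blocks.Basic.isPGroup_of_isDefectGroup h2)
  refine I.pull (n := l ^ j) (by rintro _ ⟨d, -, rfl⟩; exact d.2.1) (hz.pow_left j) ?_ ?_
  · rintro _ ⟨d, hd, rfl⟩
    have h4 := pow_card_eq_one' (x := (⟨d, hd⟩ : D))
    rw [hj] at h4
    exact congrArg (fun x : D => ((x : GF F' G') : Y')) h4
  · rwa [Subgroup.map_map, show θ.comp (GF F' G').subtype = ι.comp s.π from MonoidHom.ext fun h => (hι h).symm]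

/-- **a row from the adjoint frame** -/
theorem row_of_isog (C : Core) (hS : BoxSc) (I : Isog X' X θ z) (s : KM.Sc X' S) (hι : ∀ h, ι (s.π h) = θ h)
    (hl : l.Prime) (hp : l ≠ p) (hz : l.Coprime z) {A : Type} [CommGroup A] (hA : HasSchurMultiplier S A)
    (hpA : ¬ p ∣ Nat.card A) (hT : TorIm l X ι) : Row l S := by
  have := X'.amb.finite_GF G'
  have := Fact.mk hl
  exact hS l p _ S s.π Fact.out (I.not_dvd s hι hl hz) s.cov A hA hpA fun M hM => I.kmg C s hι hl hp hz hT hM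

end Cfsg.Agent.KM.Sc
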