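import Cfsg.Agent.KM.Box
import Cfsg.Agent.KM.Tor.Gen
import Cfsg.Agent.Blocks.Basic
import Cfsg.Agent.TwoF.DC.TBD.Ins
import Cfsg.Agent.TwoF.DC.TBD.BMain
import Cfsg.Agent.TwoF.DC.TBD.Num
import Cfsg.Agent.TwoF.DC.TBD.Pi
import Cfsg.Agent.TwoF.DC.TC.Dat
import Cfsg.Agent.S0292
import Cfsg.Agent.S0293

/-!
# KM (S4999), the spin groups: the spin representation, balanced residues, the numbers (helper31)
-/

set_option autoImplicit false
set_option linter.unusedSectionVars false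
set_option linter.unusedVariables false
set_option maxHeartbeats 400000

namespace Cfsg.Agent.KM.BD

open Cfsg Cfsg.Agent.DL Cfsg.Agent.LangThm Matrix Sum Cfsg.Agent.TwoF.DC Cfsg.Agent.TwoF.DC.TC Cfsg.Agent.TwoF.DC.TBD
  Cfsg.Agent.TwoF.DC.TBD.Cl

/-! ### a row from a simply connected datum -/

theorem row_of_sc (C : Core) (hS : BoxSc) {p : ℕ} [Fact p.Prime] {k : Type} [Field k] [CharP k p] {Y : Type} [Group Y]
    {N : Type} [Fintype N] [DecidableEq N] {ρ : Y →* GL N k} {F : MulAut Y} {G : Subgroup Y} [IsAlgClosed k]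
    {X : Datum p ρ F G} {S : Type} [Group S] (s : Sc X S) {l : ℕ} [hl : Fact l.Prime] (hp : l ≠ p) (hL : Tor.Lev X l)
    {A : Type} [CommGroup A] (hA : HasSchurMultiplier S A) (h1 : ¬ p ∣ Nat.card A) (h2 : ¬ l ∣ Nat.card A) :
    Row l S := by
  have := X.amb.finite_GF G
  refine hS l p _ S s.π Fact.out (fun h => h2 (h.trans (H95.StemCover.card_ker_dvd hA s.perf s.π s.surj s.ker.le)))
    s.cov A hA h1 fun M hM => C.kmg s.qs (C.dwR X s.nt) hl.out hp (fun M B D _ _ hD hc => Or.inl ?_) hM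
  exact Tor.toral s.pi1 hl.out hp (Nat.coprime_one_right l) hL (Blocks.Basic.isPGroup_of_isDefectGroup hD) hc

/-! ### the spin representation -/

section Rep

variable {m : ℕ} {Φ : Type} [DecidableEq Φ] (C : CD m Φ) (k : Type) [Field k]

/-- the spin representation -/
def rho : C.GG k →* GL (XB m) k := (C.GG k).subtype

theorem rho_inj : Function.Injective (rho C k) := (C.GG k).subtype_injective

variable {k}

theorem rho_fr (p : ℕ) [Fact p.Prime] [CharP k p] (g : C.GG k) :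
    rho C k (C.fr (frobenius k p) g) = frob p 1 (rho C k g) :=
  Units.ext (Matrix.ext fun i j => by
    show frobenius k p ((g.1 : AA m k) i j) = iterateFrobenius k p 1 ((g.1 : AA m k) i j)
    rw [iterateFrobenius_one])

variable [Fintype Φ] (p : ℕ) (h2 : (∃ b, C.ib b = inl ()) → (2 : k) ≠ 0)

theorem rho_poly (x : Bool × Φ) (i j : XB m) :
    ∃ f : Polynomial k, ∀ u, (rho C k ((C.rdat k p h2).ζ x u) : AA m k) i j = f.eval u := by
  have key : ∀ (b : Φ) (i j : XB m), ∃ f : Polynomial k, ∀ u, (C.zu b u : AA m k) i j = f.eval u := fun b i j =>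
    ⟨Polynomial.C ((1 : AA m k) i j) + Polynomial.X * Polynomial.C ((ga k (inl (C.ia b)) * gb k (C.ib b)) i j),
      fun u => by
        rw [CD.zu, Zp_val (C.ne_inr b), Matrix.add_apply, Matrix.smul_apply, smul_eq_mul, Polynomial.eval_add,
          Polynomial.eval_mul, Polynomial.eval_C, Polynomial.eval_C, Polynomial.eval_X]⟩
  obtain ⟨_ | _, b⟩ := x
  · exact key b j i
  · exact key b i j

/-- the weights of the spin representation -/
def mu (y : XB m) (i : Fin m) : ℤ := C.X.cv (C.X.zi i) ⬝ᵥ sv y / 2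

theorem rho_diag (c : Fin m → kˣ) :
    (rho C k ((C.rdat k p h2).κ c) : AA m k) = diagonal fun y => ((chr (mu C y) c : kˣ) : k) := by
  induction c using Pi.mulSingle_induction with
  | one => simp only [map_one, Units.val_one, diagonal_one]
  | mul a b ha hb => simp only [map_mul, Units.val_mul, ha, hb, diagonal_mul_diagonal]
  | mulSingle i c =>
    rw [RDat.κ_single]
    refine (dg_val _).trans (congrArg diagonal (funext fun y => ?_))
    rw [de_tor]
    exact congrArg _ (wch_single (mu C y) i c).symm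

end Rep

/-! ### balanced residues -/

theorem exists_bal {n : ℤ} (hn : Odd n) (h0 : 0 < n) (y : ℤ) : ∃ w, 2 * |y + n * w| < n := by
  have h1 := Int.emod_add_mul_ediv y n
  have h2 := Int.emod_nonneg y h0.ne'
  have h3 := Int.emod_lt_of_pos y h0
  obtain ⟨t, ht⟩ := hn
  by_cases h : 2 * (y % n) < n
  · refine ⟨-(y / n), ?_⟩
    rw [show y + n * -(y / n) = y % n by linear_combination -h1, abs_of_nonneg h2]
    exact h
  · refine ⟨-(y / n) - 1, ?_⟩
    rw [show y + n * (-(y / n) - 1) = y % n - n by linear_combination -h1, abs_of_nonpos (by omega)]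
    omega

theorem wt_dot {ι Φ : Type} [Fintype ι] [DecidableEq ι] [DecidableEq Φ] (X : Euc ι Φ) (x : Bool × Φ) (u : ι → ℤ) :
    X.rc.wt x ⬝ᵥ u = X.rx x ⬝ᵥ X.dual.E u := by
  rw [X.dual.dot_E, dotProduct]
  refine Finset.sum_congr rfl fun i _ => ?_
  rw [RC.wt, X.toWt_eq, X.E_vec, dotProduct_comm]
  rfl

theorem lev0 {m : ℕ} {Φ : Type} [DecidableEq Φ] (C : CD m Φ) (h : ∀ w, ∃ v, C.X.dual.E v = (2 : ℤ) • w) {n : ℤ}
    (hn : Odd n) (h0 : 0 < n) (u : Fin m → ℤ) :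
    ∃ v, ∀ x, n ∣ C.X.rc.wt x ⬝ᵥ u → C.X.rc.wt x ⬝ᵥ ((2 : ℤ) • u + n • v) = 0 := by
  choose w hw using fun i => exists_bal hn h0 (C.X.dual.E u i)
  obtain ⟨v, hv⟩ := h w
  let r : Fin m → ℤ := C.X.dual.E u + n • w
  have h1 : ∀ a : II m, 2 * |wv a ⬝ᵥ r| < n := fun a => by
    rw [wv_dot]
    rcases a with i | i
    · exact hw i
    · show 2 * |-r i| < n
      rw [abs_neg]
      exact hw i
  have h2 : ∀ b, |C.X.rv b ⬝ᵥ r| < n := fun b => by
    have h3 := h1 (inl (C.ia b))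
    have h4 : 2 * |wo (C.ib b) ⬝ᵥ r| < n := by
      rcases C.ib b with _ | a
      · rw [show wo (inl () : JJ m) = 0 from rfl, zero_dotProduct, abs_zero, mul_zero]
        exact h0
      · exact h1 a
    have h5 := abs_add_le (wv (inl (C.ia b)) ⬝ᵥ r) (wo (C.ib b) ⬝ᵥ r)
    rw [C.rv_eq, add_dotProduct]
    omega
  refine ⟨v, fun x hx => ?_⟩
  rw [wt_dot] at hx ⊢
  rw [Euc.E_add, Euc.E_smul, Euc.E_smul, hv, smul_comm n, ← smul_add, dotProduct_smul]
  have h3 : n ∣ C.X.rx x ⬝ᵥ r := by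
    rw [dotProduct_add, dotProduct_smul]
    exact dvd_add hx (dvd_mul_right _ _)
  have h4 : |C.X.rx x ⬝ᵥ r| < n := by
    obtain ⟨_ | _, b⟩ := x
    · rw [Euc.rx_false, neg_dotProduct, abs_neg]
      exact h2 b
    · exact h2 b
  rw [Int.eq_zero_of_abs_lt_dvd h3 h4, smul_zero]

theorem two_B (m : ℕ) (w : Fin m → ℤ) : ∃ v, (cB m).X.dual.E v = (2 : ℤ) • w :=
  ⟨fun l => (if l.1 + 1 < m then 2 else 1) * PS l w, PS_inj fun l => by
    refine (PS_Er l _).trans ?_
    rw [PS_smul]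
    split_ifs <;> ring⟩

theorem two_D (m : ℕ) [Fact (2 ≤ m)] (w : Fin m → ℤ) : ∃ v, (cD m).X.dual.E v = (2 : ℤ) • w :=
  ⟨fun l => w ⬝ᵥ fw l, fw_inj fun l => (sum_dot_fw _ l).trans (by rw [smul_dotProduct, smul_eq_mul])⟩

/-- the lattice condition for the odd primes -/
def LevR {ι Φ : Type} [Fintype ι] [DecidableEq ι] [DecidableEq Φ] (R : RC ι Φ) (l : ℕ) : Prop :=
  ∀ (j : ℕ) (u : ι → ℤ), ∃ c : ℤ, IsCoprime c ((l : ℤ) ^ j) ∧
    ∃ v, ∀ x, (l : ℤ) ^ j ∣ R.wt x ⬝ᵥ u → R.wt x ⬝ᵥ (c • u + (l : ℤ) ^ j • v) = 0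

theorem levR {m : ℕ} {Φ : Type} [DecidableEq Φ] (C : CD m Φ) (h : ∀ w, ∃ v, C.X.dual.E v = (2 : ℤ) • w) {l : ℕ}
    (hl : l.Prime) (h2 : l ≠ 2) : LevR C.X.rc l := fun j u => by
  have h1 : Odd ((l : ℤ) ^ j) := (Odd.natCast (hl.odd_of_ne_two h2)).pow
  exact ⟨2, Int.isCoprime_two_left.2 h1, lev0 C h h1 (pow_pos (by exact_mod_cast hl.pos) j) u⟩

/-! ### the numbers -/

theorem not_dvd_sub {p q m : ℕ} (hp : p.Prime) (h : p ∣ q) (hq : 0 < q) (hm : 0 < m) (a : ℕ) :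
    ¬ p ∣ Nat.gcd a (q ^ m - 1) := fun h1 =>
  hp.one_lt.ne' (Nat.dvd_one.1 ((Nat.dvd_sub_iff_right (Nat.one_le_pow _ _ hq) (dvd_pow h hm.ne')).1
    (h1.trans (Nat.gcd_dvd_right _ _))))

theorem not_dvd_add {p q m : ℕ} (hp : p.Prime) (h : p ∣ q) (hm : 0 < m) (a : ℕ) : ¬ p ∣ Nat.gcd a (q ^ m + 1) :=
  fun h1 => hp.one_lt.ne' (Nat.dvd_one.1 ((Nat.dvd_add_right (dvd_pow h hm.ne')).1 (h1.trans (Nat.gcd_dvd_right _ _))))

theorem not_dvd_four {l n : ℕ} (hl : l.Prime) (h2 : l ≠ 2) (h : n ∣ 4) : ¬ l ∣ n := fun h1 =>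
  h2 ((Nat.prime_dvd_prime_iff_eq hl Nat.prime_two).1 (hl.dvd_of_dvd_pow (n := 2) (h1.trans h)))

theorem card_cyc (n : ℕ) : Nat.card (Multiplicative (ZMod n)) = n := by
  rw [Nat.card_congr Multiplicative.toAdd, Nat.card_zmod]

theorem card_sq (n : ℕ) : Nat.card (Multiplicative (ZMod n × ZMod n)) = n * n := by
  rw [Nat.card_congr Multiplicative.toAdd, Nat.card_prod, Nat.card_zmod]

/-- the multiplier of the groups of plus type -/
theorem mult_plus {F : Type} [Field F] [Fintype F] {p : ℕ} (hp : p.Prime) (h : p ∣ Fintype.card F) {m : ℕ} (hm : 4 ≤ m)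
    (he : ¬ (m = 4 ∧ Fintype.card F = 2)) : ∃ (A : Type) (_ : CommGroup A),
      HasSchurMultiplier (POmega F (quadFormPlus m F)) A ∧ ¬ p ∣ Nat.card A ∧ Nat.card A ∣ 4 ∧
        (m % 2 = 1 ∧ Fintype.card F % 4 = 3 → Nat.card A ∣ 2) := by
  rcases Nat.even_or_odd m with h1 | h1
  · refine ⟨_, _, S2097.result rfl m hm h1 he, ?_, ?_, fun h2 => absurd (Nat.even_iff.1 h1) (by omega)⟩
    · rw [card_sq, hp.dvd_mul, or_self]
      exact not_dvd_sub hp h Fintype.card_pos (by omega) 2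
    · rw [card_sq]
      exact mul_dvd_mul (Nat.gcd_dvd_left 2 _) (Nat.gcd_dvd_left 2 _)
  · have h5 : 5 ≤ m := by have := Nat.odd_iff.1 h1; omega
    refine ⟨_, _, S2096.result rfl m h5 h1, ?_, ?_, fun h2 => ?_⟩ <;> rw [card_cyc]
    · exact not_dvd_sub hp h Fintype.card_pos (by omega) 4
    · exact Nat.gcd_dvd_left _ _
    · have h3 := Nm.pow_mod (m := m) (q := Fintype.card F) (by omega)
      rw [if_pos h2] at h3
      exact Nm.gcd_dvd_two (by omega)

theorem small_O7 {F : Type} [Field F] [Fintype F] (hF : Fintype.card F = 3) {l : ℕ} (hl : l.Prime) (h2 : l ≠ 2)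
    (h3 : l ≠ 3) : ¬ l ^ 3 ∣ Nat.card (POmega F (quadFormOdd 3 F)) := fun h => by
  have h1 := S0292.result hF (by decide) 3 le_rfl
  have h4 : Nat.card (POmega F (quadFormOdd 3 F)) = 2 ^ 9 * 3 ^ 9 * (5 * 7 * 13) := by
    simp only [Finset.prod_range_succ, Finset.prod_range_zero] at h1
    omega
  rw [h4] at h
  have h5 : (l ^ 3).Coprime (2 ^ 9 * 3 ^ 9) := Nat.Coprime.pow_left _ (Nat.Coprime.mul_right
    (((Nat.coprime_primes hl Nat.prime_two).2 h2).pow_right _) (((Nat.coprime_primes hl Nat.prime_three).2 h3).pow_right _))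
  have h6 := h5.dvd_of_dvd_mul_left h
  have h7 : l ≤ 7 := by
    by_contra h7
    have := Nat.le_of_dvd (by norm_num) h6
    have := Nat.pow_le_pow_left (show 8 ≤ l by omega) 3
    omega
  have := hl.two_le
  interval_cases l <;> omega

theorem small_O8 {F : Type} [Field F] [Fintype F] (hF : Fintype.card F = 2) {l : ℕ} (hl : l.Prime) (h2 : l ≠ 2)
    (h3 : l ≠ 3) : ¬ l ^ 3 ∣ Nat.card (POmega F (quadFormPlus 4 F)) := fun h => by
  have h1 := S0293.result hF 4 le_rfl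
  have h4 : Nat.card (POmega F (quadFormPlus 4 F)) = 2 ^ 12 * 3 ^ 5 * (5 ^ 2 * 7) := by
    simp only [Finset.prod_range_succ, Finset.prod_range_zero] at h1
    norm_num at h1
    omega
  rw [h4] at h
  have h5 : (l ^ 3).Coprime (2 ^ 12 * 3 ^ 5) := Nat.Coprime.pow_left _ (Nat.Coprime.mul_right
    (((Nat.coprime_primes hl Nat.prime_two).2 h2).pow_right _) (((Nat.coprime_primes hl Nat.prime_three).2 h3).pow_right _))
  have h6 := h5.dvd_of_dvd_mul_left h
  have h7 : l ≤ 5 := by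
    by_contra h7
    have := Nat.le_of_dvd (by norm_num) h6
    have := Nat.pow_le_pow_left (show 6 ≤ l by omega) 3
    omega
  have := hl.two_le
  interval_cases l <;> omega

end Cfsg.Agent.KM.BD
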