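import Cfsg.Agent.KM.Sc.E0
import Cfsg.Agent.TwoF.DC.TE.Tw

/-!
# KM (S4999): the Steinberg groups as simply connected covers of the adjoint frames (helper5)

* `StE R` : the datum `R` lives on the Steinberg group; `StE.kappa`, `StE.fr`, `StE.poly`, `StE.diag`;
* `StE.isog` : the isogeny onto the adjoint frame; **`StE.hasSc`**.
-/

set_option autoImplicit false
set_option linter.unusedSectionVars false
set_option linter.unusedVariables false

namespace Cfsg.Agent.KM.Sc

open Cfsg Cfsg.Lie Cfsg.Lie.ChevalleyDatum Cfsg.Agent.DL Cfsg.Agent.DL.Ex Cfsg.Agent.LangThm Matrix Cfsg.Agent.TwoF.DC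
  Cfsg.Agent.KZ.DatX Cfsg.Agent.Nodes.RGDChev Cfsg.Agent.KFacts.RgdChevCoord Cfsg.Agent.TwoF.DC.TE
  Cfsg.Agent.ChevalleyStructure Cfsg.Agent.ChevalleyStructure.CoxeterGeomTypes Cfsg.Agent.H45.UniE
  Cfsg.Agent.BpExc.TowChev Cfsg.Agent.H129.TorusChar Cfsg.Agent.ChevalleyStructure.NPerm
open Cfsg.Agent.H564.U (zz)
open Cfsg.Agent.H405.UE (PR)
open Cfsg.Agent.ChevalleyStructure.StBasic (sth stn_eq sth_eq)
open Cfsg.Agent.ChevalleyStructure.StTheta (theta theta_surjective)
open Cfsg.Agent.H129.StCover (stMap stMap_stGen ker_theta)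

variable {C C' : ChevalleyDatum} {n n' : ℕ} {M : CoxeterMatrix (Fin n)} {M' : CoxeterMatrix (Fin n')}
  {p : ℕ} [Fact p.Prime] {k : Type} [Field k] [IsAlgClosed k] [CharP k p]

theorem zz_poly (p : ℕ) [Fact p.Prime] [CharP k p] (hp : IsType C n M) (hk : LocFin k) {r : ℕ} (hr : r < C.nroots) (c : k) (i j : C.Idx) :
    ∃ f : Polynomial k, ∀ u, ((zz hp r (c * u) : GL C.Idx k) : Matrix C.Idx C.Idx k) i j = f.eval u := by
  obtain ⟨f, hf⟩ := (chev (p := p) hp hk one_pos).polyx (Nodes.RGDChev.vec C n r) ((isRoot_iff hp _ _).2 ⟨r, hr, rfl⟩) i j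
  refine ⟨f.comp (Polynomial.C c * Polynomial.X), fun u => ?_⟩
  rw [Polynomial.eval_comp, Polynomial.eval_mul, Polynomial.eval_C, Polynomial.eval_X, ← hf]
  exact congrArg (fun y : ↥(C.group k) => ((y : GL C.Idx k) : Matrix C.Idx C.Idx k) i j) (xc_vec hp hr (c * u)).symm

theorem theta_sth (hp : IsType C n M) (i : Fin n) (c : k) : theta hp.inList k (sth C (C.simple i) c) = hc hp i c := by
  rw [hc_eq, sth_eq, stn_eq, stn_eq]
  simp only [map_mul, map_inv, theta_zz hp]

/-- the datum lives on the Steinberg group -/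
structure StE (R : RDat p (Fin n) (PR C) k (C.SteinbergGroup k)) : Prop extends StD R where
  w : ∀ b t, R.τ (R.z b t) = C.stGen k (C.neg b.1) t
  hh : ∀ (i : Fin n) c, R.hh i c = sth C (C.simple i) (c : k)
  tab : RD.Tab C n R.R Subtype.val

/-- the matrix of the coroots -/
def cM (C : ChevalleyDatum) (n' : ℕ) {n : ℕ} (f : Fin n → Fin n') : Matrix (Fin n') (Fin n) ℤ :=
  Matrix.of fun a i => cartanOf C n' (f i) a

namespace StE

variable {R : RDat p (Fin n) (PR C) k (C.SteinbergGroup k)} (E : StE R) (hp : IsType C n M)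
include E

theorem kappa (hp' : IsType C' n' M') {j : C.SteinbergGroup k →* ↥(C'.group k)} {f : Fin n → Fin n'}
    (h : ∀ (i : Fin n) (c : k), j (sth C (C.simple i) c) = hc hp' (f i) c) (c : Fin n → kˣ) :
    j (R.κ c) = Ex.tau hp' fun a => chr (cM C' n' f a) c := by
  induction c using Pi.mulSingle_induction with
  | one => simp only [map_one]; exact (map_one _).symm
  | mul a b ha hb => simp only [map_mul, ha, hb]; exact (map_mul _ _ _).symm
  | mulSingle i c =>
    rw [RDat.κ_single, E.hh, h, hc_eq_tau]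
    congr 1
    funext a
    rw [chr_apply, Finset.prod_eq_single i (fun b _ hb => by rw [Pi.mulSingle_eq_of_ne hb, _root_.one_zpow])
      (fun hi => absurd (Finset.mem_univ i) hi), Pi.mulSingle_eq_same]
    rfl

include hp

theorem zeta (x : Bool × PR C) : ∃ r < C.nroots, ∀ u, R.ζ x u = C.stGen k r u := by
  obtain ⟨_ | _, b⟩ := x
  · exact ⟨_, RootVec.neg_lt hp.checked b.2.1, E.w b⟩
  · exact ⟨_, b.2.1, E.z b⟩

theorem wt_eq (x : Bool × PR C) : R.R.wt x = R.R.vec x ᵥ* cM C n id := funext fun i => by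
  show ∑ j, R.R.C i j * R.R.vec x j = ∑ j, R.R.vec x j * cartanOf C n i j
  exact Finset.sum_congr rfl fun j _ => by rw [E.tab.C, mul_comm]

theorem ker_le (hC : C ∈ [chevG2, chevF4, chevE6, chevE7, chevE8]) :
    Subgroup.center (C.SteinbergGroup k) ≤ R.κ.range := by
  obtain rfl := hp.rank_eq
  obtain ⟨Φ, h1, h2, -⟩ := StCenter.exists_Phi k C hC
  rwa [show R.κ = Φ from MonoidHom.pi_ext fun i x => by rw [RDat.κ_single, E.hh, h1]]

section Rep

variable {L : Lv C C' n n'} {hp' : IsType C' n' M'} {j : C.SteinbergGroup k →* ↥(C'.group k)} (U : Up L hp' j)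
include U

omit E hp in
theorem fr (g : C.SteinbergGroup k) : ((C'.group k).subtype.comp j) (stMap C (frobenius k p) g) =
    frob p 1 (((C'.group k).subtype.comp j) g) := by
  have h : j.comp (stMap C (frobenius k p)) = (frobA hp'.inList p 1).toMonoidHom.comp j :=
    H129.StCover.hom_ext fun r hr t => by
      show j (stMap C _ _) = frobA hp'.inList p 1 (j _)
      rw [stMap_stGen, U.gen r hr, U.gen r hr, frobA_apply, emb_zz hp', iterateFrobenius_one, map_mul, map_intCast]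
  exact congrArg Subtype.val (DFunLike.congr_fun h g)

theorem poly (hk : LocFin k) (x : Bool × PR C) (a b : C'.Idx) : ∃ f : Polynomial k, ∀ u,
    (((C'.group k).subtype.comp j) (R.ζ x u) : Matrix C'.Idx C'.Idx k) a b = f.eval u := by
  obtain ⟨r, hr, h⟩ := E.zeta hp x
  obtain ⟨f, hf⟩ := zz_poly p hp' hk (L.lt r hr) (L.ε r : k) a b
  exact ⟨f, fun u => by rw [h, MonoidHom.comp_apply, U.gen r hr, ← hf]; rfl⟩

theorem diag : ∃ μ : C'.Idx → Fin n → ℤ, ∀ c, (((C'.group k).subtype.comp j) (R.κ c) : Matrix C'.Idx C'.Idx k) =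
    diagonal fun i => ((chr (μ i) c : kˣ) : k) :=
  ⟨_, fun c => by
    rw [MonoidHom.comp_apply, E.kappa hp' (U.j_h hp), Subgroup.coe_subtype, coe_tau]
    exact congrArg diagonal (funext fun i => congrArg _ (chr_chr _ _ _))⟩

end Rep

variable (P : Tws R) {α : MulAut ↥(C.group k)} {π : Equiv.Perm (Fin n)} {x : Fin n → ℕ}

theorem comm (G : Gd hp p α π x) (h1 : ∀ i, P.gι P.σ i = π i) (h2 : ∀ i, x i = P.f) (g : C.SteinbergGroup k) :
    theta hp.inList k (P.Θ g) = α (theta hp.inList k g) := by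
  have h : (theta hp.inList k).comp P.Θ = α.toMonoidHom.comp (theta hp.inList k) := by
    refine R.hom_ext (fun i t => ?_) fun i t => ?_
    · show theta hp.inList k (P.Θ _) = α (theta hp.inList k _)
      rw [P.Θ_eq, P.GF_x, E.x, E.x, theta_zz hp, theta_zz hp, h1, ← h2 i]
      exact (G.pos i t).symm
    · show theta hp.inList k (P.Θ _) = α (theta hp.inList k _)
      rw [P.Θ_eq, P.GF_y, E.y, E.y, theta_zz hp, theta_zz hp, h1, ← h2 i]
      exact (G.neg i t).symm
  exact DFunLike.congr_fun h g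

theorem isog (hC : C ∈ [chevG2, chevF4, chevE6, chevE7, chevE8]) {z : ℕ} (hz : 0 < z) {B : Fin n → Fin n → ℤ}
    (hB : InvC C n z B) {Mx : Matrix (Fin n) (Fin n) ℤ} (X : XF hp p k Mx) {N : Type} [Fintype N] [DecidableEq N]
    {ρ : C.SteinbergGroup k →* GL N k} {F : MulAut (C.SteinbergGroup k)} (X' : Datum p ρ F ⊤) (e : Fin n ≃ X'.R)
    (h0 : ∀ g, theta hp.inList k (F g) = X.F (theta hp.inList k g)) (h1 : ∀ c, X'.τ c = R.κ (c ∘ e))
    (h2 : ∀ a, X'.Rt a → ∃ x, X'.wt a ∘ e = R.R.wt x) (h3 : ∀ x, ∃ a, X'.Rt a ∧ X'.wt a ∘ e = R.R.wt x) :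
    Nonempty (Isog X' X.D (theta hp.inList k) z) := by
  have k1 : cM C n id * (Matrix.of B)ᵀ = (z : ℤ) • (1 : Matrix (Fin n) (Fin n) ℤ) := by
    ext a b
    rw [Matrix.smul_apply, Matrix.one_apply, smul_ite, smul_zero, smul_eq_mul, mul_one, if_congr eq_comm rfl rfl, ← hB b a, Matrix.mul_apply]
    exact Finset.sum_congr rfl fun i _ => mul_comm (cartanOf C n i a) (B b i)
  have k2 : (Matrix.of B)ᵀ * cM C n id = (z : ℤ) • (1 : Matrix (Fin n) (Fin n) ℤ) := by
    have h5 : (cM C n id).det ≠ 0 := fun h => by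
      have h6 := congrArg det k1
      rw [det_mul, h, zero_mul, det_smul, det_one, mul_one] at h6
      exact pow_ne_zero _ (by exact_mod_cast hz.ne') h6.symm
    refine (isLeftRegular_iff_nonsingular.2 (nonsingular_iff_det_mem_nonZeroDivisors.2
      (mem_nonZeroDivisors_of_ne_zero h5))) ?_
    show cM C n id * _ = cM C n id * _
    rw [← Matrix.mul_assoc, k1, Matrix.smul_mul, Matrix.mul_smul, Matrix.one_mul, Matrix.mul_one]
  have k3 : ∀ a' x, X'.wt a' ∘ e = R.R.wt x → X'.wt a' = R.R.vec x ᵥ* (cM C n id).submatrix id e.symm := fun a' x h =>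
    funext fun i => by
      have h5 := congrFun (h.trans (E.wt_eq hp x)) (e.symm i)
      rw [Function.comp_apply, e.apply_symm_apply] at h5
      exact h5
  refine ⟨{
    pos := hz
    comm := h0
    mem := fun _ _ => trivial
    surj := fun y _ => (theta_surjective hp.inList y).imp fun _ h => ⟨trivial, h⟩
    ker := fun y _ hy => ?_
    P := (cM C n id).submatrix id e.symm
    Q := (Matrix.of B)ᵀ.submatrix e.symm id
    PQ := ?_
    QP := ?_
    tau := fun c => ?_
    root := fun a' ha' => ?_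
    root' := fun a ha => ?_ }⟩
  · obtain ⟨c, rfl⟩ := E.ker_le hp hC ((ker_theta hp.inList).le hy)
    rw [show c = (c ∘ e.symm) ∘ e from funext fun i => (congrArg c (e.symm_apply_apply i)).symm, ← h1]
    exact X'.τ_mem _
  · exact (submatrix_mul_equiv _ _ id e.symm id).trans k1
  · refine (submatrix_mul_equiv _ _ e.symm (Equiv.refl _) e.symm).trans ?_
    rw [k2, submatrix_smul, Pi.smul_apply, Pi.smul_apply, submatrix_one_equiv]
  · rw [h1, E.kappa hp (f := id) (theta_sth hp)]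
    refine congrArg (Ex.tau hp) (funext fun a => ?_)
    rw [chr_apply, chr_apply, ← e.prod_comp]
    exact Finset.prod_congr rfl fun i _ => 
      congrArg (fun b => c (e i) ^ cM C n id a b) (e.symm_apply_apply i).symm
  · obtain ⟨x, hx⟩ := h2 a' ha'
    exact ⟨_, (X.rt_iff _).2 ((E.tab.isRt_iff hp _).1 ⟨x, rfl⟩), k3 a' x hx⟩
  · obtain ⟨x, rfl⟩ := (E.tab.isRt_iff hp _).2 ((X.rt_iff _).1 ha)
    obtain ⟨a', h5, h6⟩ := h3 x
    exact ⟨a', h5, k3 a' x h6⟩

/-- **the simply connected cover** -/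
theorem hasSc (hD : BoxDat2) (hC : C ∈ [chevG2, chevF4, chevE6, chevE7, chevE8]) {z : ℕ} (hz : 0 < z)
    {B : Fin n → Fin n → ℤ} (hB : InvC C n z B) {L : Lv C C' n n'} {hp' : IsType C' n' M'}
    {j : C.SteinbergGroup k →* ↥(C'.group k)} (U : Up L hp' j) (hj : Function.Injective j) (hF : R.Fa)
    (hP : P.Fr = stMap C (frobenius k p)) {Mx : Matrix (Fin n) (Fin n) ℤ} (X : XF hp p k Mx) (G : Gd hp p X.F π x)
    (h1 : ∀ i, P.gι P.σ i = π i) (h2 : ∀ i, x i = P.f) {S : Type} [Group S] {Adm : Matrix (Fin n) (Fin n) ℤ → Prop}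
    {d : ℕ} (t : XS X Adm d S) (ht : t.ov.hom.range.index ∣ d) (hS : IsSimpleGroup S) (hn : ¬ IsMulCommutative S)
    (hπ : ∃ π : P.TT →* S, Function.Surjective π ∧ π.ker ≤ Subgroup.center P.TT) {A : Type} [CommGroup A] {a : ℕ}
    (hA : HasSchurMultiplier S A) (h3 : Nat.card A ∣ d * p ^ a) (h4 : 0 < d) (h5 : d ≤ Nat.card P.Zc) :
    HasSc hp p Mx Adm z d S := by
  obtain ⟨π₀, k1, k2⟩ := hπ
  obtain ⟨F, X', e, ⟨s⟩, k3, k4, k5, k6⟩ := hD p _ _ k _ R P hF (lf_of_locFin X.hk) _ ((C'.group k).subtype.comp j)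
    ((C'.group k).subtype_injective.comp hj) (fun g => by rw [hP]; exact fr U g) (E.poly hp U X.hk) (E.diag hp U) S hS hn
    π₀ k1 k2 A d a hA h3 h4 h5
  obtain ⟨I⟩ := E.isog hp hC hz hB X X' e (fun g => by rw [k3]; exact E.comm hp P G h1 h2 g) k4 k5 k6
  obtain ⟨s, hs⟩ := I.exists_sc (ker_theta hp.inList).le s t.ov
  exact ⟨k, _, _, _, X, t, ht, _, _, _, _, _, _, F, X', _, s, ⟨I⟩, ker_theta hp.inList, hs⟩

end StE

end Cfsg.Agent.KM.Sc
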