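import Cfsg.Agent.DL.St.Dat

/-!
# KM (S4999): the finite group is generated by `U ^ F`, `U⁻ ^ F` and `T ^ F` (helper31)
-/

set_option autoImplicit false
set_option linter.unusedSectionVars false
set_option maxHeartbeats 400000

namespace Cfsg.Agent.KM.BD

open CoxeterSystem Cfsg.Agent.ChevalleyStructure.CoxeterGeom Cfsg.Agent.Tits.Roots Cfsg.Agent.Nodes.Reps
  Cfsg.Agent.Nodes.BNOf Cfsg.Agent.Nodes.Bruhat Cfsg.Agent.Nodes.NormalForm Cfsg.Agent.Nodes.StabComb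
  Cfsg.Agent.Nodes.OppDec Cfsg.Agent.Tits.Core Cfsg.Agent.Tits.Exchange Cfsg.Agent.DL Cfsg.Agent.DL.St

variable {p : ℕ} [Fact p.Prime] {k : Type} [Field k] [CharP k p] {Y : Type} [Group Y] {N : Type} [Fintype N]
  [DecidableEq N] {ρ : Y →* GL N k} {F : MulAut Y} {G : Subgroup Y} [IsAlgClosed k] {D : Datum p ρ F G} (h : D.QS)

include h

/-- the normal form of a fixed element consists of fixed elements -/
theorem nf_fix {w : D.W} {u m v : Y} (hu : u ∈ D.U) (hm : D.Rp w m) (hv : v ∈ D.S (NW D.cs D.h w))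
    (e : F (u * m * v) = u * m * v) : D.Fw w = w ∧ F u = u ∧ F m = m ∧ F v = v := by
  rw [map_mul, map_mul] at e
  refine D.normal_form_unique ((h.F_mem_U u).2 hu) hu hm.mapF hm (D.F_mem_S (fun _ ha => ha.1) (fun a ha => ?_) hv) hv e
  refine ⟨D.g_root a ha.1, h a ha.1 ha.2.1, ?_⟩
  have h1 := h _ (ha.1.act w).neg (neg_nonneg.2 ha.2.2)
  rw [D.g_neg (ha.1.act w), D.g_act w ha.1] at h1
  exact neg_nonneg.1 h1

/-- a fixed element of the parabolic subgroup of an orbit has all or no descents -/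
theorem eq_of_fix {i : D.I} {w w' : D.W} (hw : w ∈ WJ D.cs {j | D.σ.SameCycle i j})
    (hw' : w' ∈ WJ D.cs {j | D.σ.SameCycle i j}) (e : D.Fw w = w) (e' : D.Fw w' = w') (n : w ≠ 1) (n' : w' ≠ 1) :
    w = w' ∧ D.cs.length (w * D.cs.simple i) < D.cs.length w := by
  have key : ∀ w ∈ WJ D.cs {j | D.σ.SameCycle i j}, D.Fw w = w → w ≠ 1 → ∀ j, D.σ.SameCycle i j →
      D.cs.length (w * D.cs.simple j) < D.cs.length w := fun w hw e n j hj => by
    by_contra h1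
    have h2 : IsMinR D.cs {j | D.σ.SameCycle i j} w := (isMinR_iff _).2 fun l hl =>
      (asc_iff_of_sameCycle (aut_qs h).simple e (hj.symm.trans hl)).2
        (lt_of_le_of_ne (not_lt.1 h1) (D.cs.length_mul_simple_ne w j).symm)
    have h3 := h2 _ (inv_mem hw)
    rw [mul_inv_cancel, length_one] at h3
    exact n (D.cs.length_eq_zero_iff.1 (by omega))
  have key2 : ∀ w ∈ WJ D.cs {j | D.σ.SameCycle i j}, D.Fw w = w → w ≠ 1 →
      IsMinR D.cs {j | D.σ.SameCycle i j} (w0 D.cs * w) := fun w hw e n => (isMinR_iff _).2 fun j hj => by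
    have h1 := key w hw e n j hj
    have h2 := length_w0_mul D.cs w
    have h3 := length_w0_mul D.cs (w * D.cs.simple j)
    rw [mul_assoc]
    omega
  exact ⟨mul_left_cancel (eq_of_isMinR (key2 w hw e n) (key2 w' hw' e' n')
    (by simpa [mul_assoc] using mul_mem (inv_mem hw) hw')), key w hw e n i (Equiv.Perm.SameCycle.refl _ _)⟩

variable {K : Subgroup Y} (hU : D.U ⊓ GF F G ≤ K) (hV : D.S (Neg D.cs D.h) ⊓ GF F G ≤ K) (hT : D.T ⊓ GF F G ≤ K)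

include hU hT in
theorem mem_of_cl {g v : Y} (hg : g ∈ GF F G) (hv : v ∈ GF F G) (hK : v ∈ K)
    (e : cl D.U D.NN D.pr g = cl D.U D.NN D.pr v) : g ∈ K := by
  obtain ⟨w, a, ha, m, hm, b, hb, rfl⟩ := D.exists_normal_form hg.1
  obtain ⟨w', a', ha', m', hm', b', hb', rfl⟩ := D.exists_normal_form hv.1
  obtain ⟨-, f1, f2, f3⟩ := nf_fix h ha hm hb hg.2
  obtain ⟨-, f1', f2', f3'⟩ := nf_fix h ha' hm' hb' hv.2
  have k1 : ∀ {u : Y}, u ∈ D.U → F u = u → u ∈ K := fun hu e => hU ⟨hu, D.U_le_G hu, e⟩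
  rw [cl_eq D.sbn ⟨w, hm⟩ ⟨a, ha, b, D.NW_le_U w hb, rfl⟩, cl_eq D.sbn ⟨w', hm'⟩ ⟨a', ha', b', D.NW_le_U w' hb', rfl⟩] at e
  have k2 := D.sbn.mem_T_of_π_eq' ⟨w', hm'⟩ ⟨w, hm⟩ e.symm
  have k3 : m'⁻¹ * m ∈ K := hT ⟨k2, D.T_le_G k2, mem_fix.2 (by rw [map_mul, map_inv, f2, f2'])⟩
  rw [K.mul_mem_cancel_right (k1 (D.NW_le_U w' hb') f3'), K.mul_mem_cancel_left (k1 ha' f1')] at hK
  exact mul_mem (mul_mem (k1 ha f1) ((K.mul_mem_cancel_left (inv_mem hK)).1 k3)) (k1 (D.NW_le_U w hb) f3)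

include hU hV hT

theorem par_le (i : D.I) {g : Y} (hg : g ∈ GF F G) (hJ : g ∈ Par D.sbn {j | D.σ.SameCycle i j}) : g ∈ K := by
  by_cases h1 : cl D.U D.NN D.pr g = 1
  · exact mem_of_cl h hU hT hg (one_mem _) (one_mem _) (h1.trans (cl_one D.sbn).symm)
  have f0 := (aut_qs h).cl_fix D.sbn hg.1 hg.2
  obtain ⟨m, hm, f1, e1⟩ := (aut_qs h).exists_fix_N D.sbn f0
  have hmJ : m ∈ Par D.sbn {j | D.σ.SameCycle i j} := (mem_Par_N D.sbn hm).2 (e1 ▸ hJ.2)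
  have hr : D.Rp (cl D.U D.NN D.pr g) m := e1 ▸ D.rp_pr hm
  have hd := (eq_of_fix h hJ.2 hJ.2 f0 f0 h1 h1).2
  obtain ⟨u, hu, f2, h2⟩ := move h i
  obtain ⟨b, hb, c, hc, rfl⟩ := D.exists_PW_NW (cl D.U D.NN D.pr g) hu
  have f3 : F c = c := (nf_fix h (D.conj_PW hr hb) hr hc (by
    rw [inv_mul_cancel_right, mul_assoc, map_mul, f1, f2])).2.2.2
  have hc1 : c ≠ 1 := by
    rintro rfl
    refine h2 1 (one_mem _) ?_
    rw [inv_one, one_mul, mul_one, mul_one]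
    refine (mem_PW_iff D i (D.PW_le_U _ hb)).2 (RGD.Sup_mono (fun a ha => (mem_PW D).2 ⟨ha.1, ha.2.1, ?_⟩) hb)
    rintro rfl
    exact (ha.1.act _).not_pos_neg ha.2.2 ((lt_iff D.cs D.h _ i).1 hd)
  have hv1 : m * c * m⁻¹ ∈ D.S (Neg D.cs D.h) :=
    D.conj_mem_S hr (S' := Neg D.cs D.h) (fun _ ha => ha.1) (fun a ha => ⟨ha.1.act _, ha.2.2⟩) hc
  have hvJ : m * c * m⁻¹ ∈ Par D.sbn {j | D.σ.SameCycle i j} :=
    mul_mem (mul_mem hmJ (U_le_Par D.sbn _ (D.NW_le_U _ hc))) (inv_mem hmJ)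
  have hv : m * c * m⁻¹ ∈ GF F G := ⟨hvJ.1, mem_fix.2 (by rw [map_mul, map_mul, map_inv, f1, f3])⟩
  refine mem_of_cl h hU hT hg hv (hV ⟨hv1, hv⟩)
    (eq_of_fix h hJ.2 hvJ.2 f0 ((aut_qs h).cl_fix D.sbn hv.1 hv.2) h1 fun e => hc1 ?_).1
  have h3 := mem_U_of_conj D.sbn (inv_mem hm) (D.NW_le_U _ hc) (by
    rw [inv_inv]
    exact ⟨hvJ.1, mem_WJ_empty.2 e⟩)
  rw [inv_inv] at h3
  exact conj_eq_one_iff.1 (D.eq_one_of_mem_U_of_mem_UN h3 hv1)

/-- **generation of the finite group** -/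
theorem gf_le : GF F G ≤ K := by
  suffices H : ∀ n, ∀ g ∈ GF F G, D.cs.length (cl D.U D.NN D.pr g) = n → g ∈ K from fun g hg => H _ g hg rfl
  intro n
  induction n using Nat.strong_induction_on with
  | _ n ih =>
    rintro g hg rfl
    by_cases h1 : cl D.U D.NN D.pr g = 1
    · exact mem_of_cl h hU hT hg (one_mem _) (one_mem _) (h1.trans (cl_one D.sbn).symm)
    obtain ⟨i, hi⟩ := D.cs.exists_rightDescent_of_ne_one h1
    obtain ⟨y, hy, f1, h2, e⟩ := (aut_qs h).exists_fix_gate D.sbn (J := {j | D.σ.SameCycle i j})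
      (fun j => Equiv.Perm.sameCycle_apply_right) hg.1 (by rw [(mem_GF.1 hg).2, inv_mul_cancel]; exact one_mem _)
    have h3 : IsMinR D.cs {j | D.σ.SameCycle i j} (cl D.U D.NN D.pr y) := e ▸ isMinR_mn _ _
    have h4 : y⁻¹ * g ∈ Par D.sbn {j | D.σ.SameCycle i j} := by simpa using inv_mem h2
    have h5 : y ∈ K := ih _ (gate_lt D.sbn hy h4 h3 fun h5 => by
      rw [← cl_eq_of_B D.sbn hy h5] at h3
      exact ((isMinR_iff _).1 h3 i (Equiv.Perm.SameCycle.refl _ _)).not_gt hi) y ⟨hy, f1⟩ rfl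
    exact (K.mul_mem_cancel_left (inv_mem h5)).1
      (par_le h hU hV hT i (mul_mem (inv_mem (show y ∈ GF F G from ⟨hy, f1⟩)) hg) h4)

end Cfsg.Agent.KM.BD
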